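/-
S4021. [CC1,CC2,CC3] Core, base case `D0 ≤ KK`. See PLAN.md.
-/
import Cfsg.Agent.Lib.EqOrd.CB
import Cfsg.Agent.Lib.Zass.FeitMain
import Cfsg.Agent.S1230
import Cfsg.Agent.Lib.EqOrd.InvH
import Cfsg.Agent.Lib.Classical.SL2Sylow

set_option autoImplicit false
set_option linter.style.haveILetI false
set_option linter.unusedSectionVars false

namespace Cfsg.Agent.Lib.EqOrd.CC

open Subgroup Cfsg.Agent.Lib.EqOrd.Defs Cfsg.Agent.Lib.EqOrd.CA Cfsg.Agent.Lib.EqOrd.CB

universe u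

variable {Y : Type u} [Group Y] [Finite Y] {n : ℕ}

theorem mem_KK {g : Y} : g ∈ KK Y ↔ ∀ S : Sylow 2 Y, g • S = S := by
  simp only [KK, Subgroup.mem_iInf, mem_NN]

instance KK_normal : (KK Y).Normal := by
  refine ⟨fun x hx g => ?_⟩
  rw [mem_KK] at hx ⊢
  intro S
  rw [mul_smul, mul_smul, hx, smul_inv_smul]

/-- The action as a homomorphism. -/
noncomputable def quotPerm : (Y ⧸ KK Y) →* Equiv.Perm (Sylow 2 Y) :=
  QuotientGroup.lift (KK Y) (MulAction.toPermHom Y (Sylow 2 Y)) (by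
    intro x hx
    ext1 S
    exact mem_KK.mp hx S)

/-- The quotient acts on the Sylow `2`-subgroups of `Y`. -/
noncomputable instance quotAction : MulAction (Y ⧸ KK Y) (Sylow 2 Y) :=
  MulAction.compHom (Sylow 2 Y) quotPerm

theorem mk_smul (g : Y) (S : Sylow 2 Y) : ((g : Y ⧸ KK Y)) • S = g • S := rfl

/-- An involutive fixed-point-free automorphism inverts. -/
lemma inv_of_fpf {N : Type*} [Group N] [Finite N] (σ : N →* N) (hσ : ∀ x, σ (σ x) = x)
    (hfix : ∀ x, σ x = x → x = 1) : ∀ x, σ x = x⁻¹ := by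
  have hinj : Function.Injective (fun x : N => x⁻¹ * σ x) := by
    intro x y hxy
    simp only at hxy
    have h1 : σ (y * x⁻¹) = y * x⁻¹ := by
      rw [map_mul, map_inv]
      have e : σ y = y * (x⁻¹ * σ x) := by
        rw [hxy]
        group
      rw [e]
      group
    have h2 := hfix _ h1
    have h3 : y = x := by
      have := mul_inv_eq_one.mp h2
      exact this
    exact h3.symm
  have hsurj := Finite.surjective_of_injective hinj
  intro y
  obtain ⟨x, rfl⟩ := hsurj y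
  simp only [map_mul, map_inv, hσ]
  group

/-- Cardinality of the image in a quotient. -/
lemma card_map_mk {X : Type*} [Group X] [Finite X] (K : Subgroup X) [K.Normal] (H : Subgroup X)
    (hKH : K ≤ H) : Nat.card (H.map (QuotientGroup.mk' K)) * Nat.card K = Nat.card H := by
  let f : H →* X ⧸ K := (QuotientGroup.mk' K).comp H.subtype
  have h1 : f.range = H.map (QuotientGroup.mk' K) := by
    rw [MonoidHom.range_comp, Subgroup.range_subtype]
  have h2 : f.ker = K.subgroupOf H := by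
    ext x
    simp [f, MonoidHom.mem_ker, Subgroup.mem_subgroupOf, QuotientGroup.eq_one_iff]
  have h3 := Subgroup.index_ker f
  have h4 := Subgroup.card_mul_index f.ker
  have h5 : Nat.card f.ker = Nat.card K := by
    rw [h2]
    exact Nat.card_congr (Subgroup.subgroupOfEquivOfLe hKH).toEquiv
  rw [h3, h5, h1] at h4
  rw [mul_comm]
  exact h4

/-- Three involutions in an elementary group of order at least 4. -/
lemma exists_three {X : Type*} [Group X] [Finite X] {T : Subgroup X} (hel : ∀ a ∈ T, a * a = 1)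
    (hc : 4 ≤ Nat.card T) :
    ∃ t₁ ∈ T, ∃ t₂ ∈ T, orderOf t₁ = 2 ∧ orderOf t₂ = 2 ∧ orderOf (t₁ * t₂) = 2 := by
  haveI : Fact (Nat.Prime 2) := ⟨Nat.prime_two⟩
  letI : Fintype T := Fintype.ofFinite _
  have h2 : 2 < Fintype.card T := by
    rw [← Nat.card_eq_fintype_card]
    omega
  obtain ⟨a, b, c, hab, hac, hbc⟩ := Fintype.two_lt_card_iff.mp h2
  have hord : ∀ x ∈ T, x ≠ 1 → orderOf x = 2 := by
    intro x hx hx1
    apply orderOf_eq_prime _ hx1
    rw [pow_two]
    exact hel x hx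
  have hb : (a : X)⁻¹ * b ≠ 1 := by
    intro h
    apply hab
    exact Subtype.ext (inv_mul_eq_one.mp h)
  have hc' : (a : X)⁻¹ * c ≠ 1 := by
    intro h
    apply hac
    exact Subtype.ext (inv_mul_eq_one.mp h)
  have hb' : (a : X)⁻¹ * b ∈ T := mul_mem (inv_mem a.2) b.2
  have hc'' : (a : X)⁻¹ * c ∈ T := mul_mem (inv_mem a.2) c.2
  refine ⟨_, hb', _, hc'', hord _ hb' hb, hord _ hc'' hc', hord _ (mul_mem hb' hc'') ?_⟩
  intro h
  apply hbc
  apply Subtype.ext
  have h1 := hel _ hc''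
  have h2 : (a : X)⁻¹ * b = (a : X)⁻¹ * c := by
    have h3 : (a : X)⁻¹ * b = ((a : X)⁻¹ * b * ((a : X)⁻¹ * c)) * ((a : X)⁻¹ * c) := by
      rw [mul_assoc ((a : X)⁻¹ * b), h1, mul_one]
    rw [h3, h, one_mul]
  exact mul_left_cancel h2

variable (h : Cls Y n)
include h

/-- [CC1] Zassenhaus. The last clause: a regular normal `N̂` has odd order, each involution inverts it
(fixed-point-free involution), two commuting involutions of `S`: `N̂ = 1`. -/
theorem isZass (hD : ∀ S S' : Sylow 2 Y, S ≠ S' → D0 S S' ≤ KK Y) :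
    Cfsg.IsZassenhausGroup (Y ⧸ KK Y) (Sylow 2 Y) := by
  classical
  have h₀ := h.toCls0
  refine ⟨⟨?_⟩, ?_, ?_, ?_, ?_⟩
  · -- faithful
    intro a b hab
    obtain ⟨a, rfl⟩ := QuotientGroup.mk_surjective a
    obtain ⟨b, rfl⟩ := QuotientGroup.mk_surjective b
    rw [QuotientGroup.eq, mem_KK]
    intro S
    have h1 : a • (a⁻¹ • (b • S)) = a • S := by
      rw [smul_inv_smul]
      exact (hab S).symm
    have h2 := smul_left_cancel a h1
    rw [mul_smul]
    exact h2
  · -- two transitive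
    rw [MulAction.is_two_pretransitive_iff]
    intro a b c d hab hcd
    obtain ⟨g, h1, h2⟩ := two_trans h hab hcd
    exact ⟨(g : Y ⧸ KK Y), h1, h2⟩
  · -- three fixed points
    intro g a b c hab hbc hac ha hb hc
    obtain ⟨g, rfl⟩ := QuotientGroup.mk_surjective g
    rw [mk_smul] at ha hb hc
    obtain ⟨x, hx, hxr, -, -, hdec, -, -, -⟩ := exists_pi h hab
    obtain ⟨d, hd, k, rfl⟩ := hdec g (mem_DD.mpr ⟨ha, hb⟩)
    have hdK : d ∈ KK Y := hD a b hab hd
    have hdc : d • c = c := mem_KK.mp hdK c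
    have hkc : x ^ k • c = c := by
      have h1 : d • (x ^ k • c) = d • c := by
        rw [← mul_smul, hc, hdc]
      exact smul_left_cancel d h1
    by_cases hk1 : x ^ k = 1
    · rw [hk1, mul_one, QuotientGroup.eq_one_iff]
      exact hdK
    · exfalso
      have hcop : k.Coprime (orderOf x) := by
        rw [hxr, Nat.coprime_comm, Nat.Prime.coprime_iff_not_dvd h.hp]
        intro hdvd
        apply hk1
        rw [← hxr] at hdvd
        exact orderOf_dvd_iff_pow_eq_one.mp hdvd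
      obtain ⟨m, hm⟩ := exists_pow_eq_self_of_coprime hcop
      have hxc : x • c = c := by
        have hst : x ^ k ∈ MulAction.stabilizer Y c := hkc
        have h2 : (x ^ k) ^ m ∈ MulAction.stabilizer Y c := pow_mem hst m
        rw [hm] at h2
        exact h2
      rcases fix_two h hab hx hxr hxc with h3 | h3
      · exact hac h3.symm
      · exact hbc h3.symm
  · -- a nontrivial element fixing two points
    obtain ⟨S⟩ : Nonempty (Sylow 2 Y) := inferInstance
    obtain ⟨S', hS'⟩ := exists_other h₀ S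
    have hne : S ≠ S' := fun e => hS' e.symm
    obtain ⟨x, hx, hxr, -⟩ := exists_pi h hne
    refine ⟨(x : Y ⧸ KK Y), ?_, S, S', hne, (mem_DD.mp hx).1, (mem_DD.mp hx).2⟩
    intro hx1
    rw [QuotientGroup.eq_one_iff] at hx1
    obtain ⟨u, hu, hus⟩ := exists_swap h₀ hne
    have h1 := swap_inverts h hne hx hxr hu hus
    have h2 : u * x = x * u := (Subgroup.mem_center_iff.mp (KK_central h hx1) u)
    have h3 : x = x⁻¹ := by
      rw [h2] at h1
      simpa using h1
    have h4 : x ^ 2 = 1 := by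
      rw [pow_two]
      nth_rewrite 1 [h3]
      group
    have h5 : orderOf x ∣ 2 := orderOf_dvd_of_pow_eq_one h4
    rw [hxr] at h5
    have h6 := Nat.le_of_dvd (by norm_num) h5
    have h7 : 2 ^ 2 ≤ 2 ^ n := Nat.pow_le_pow_right (by norm_num) h.hn
    omega
  · -- no regular normal subgroup
    intro N hN htr
    by_contra hno
    push Not at hno
    obtain ⟨S⟩ : Nonempty (Sylow 2 Y) := inferInstance
    obtain ⟨S', hS'⟩ := exists_other h₀ S
    have h4 : 4 ≤ Nat.card (S : Subgroup Y) := by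
      rw [h.hcard S]
      calc 4 = 2 ^ 2 := by norm_num
        _ ≤ 2 ^ n := Nat.pow_le_pow_right (by norm_num) h.hn
    obtain ⟨t₁, ht₁, t₂, ht₂, ho₁, ho₂, ho₃⟩ := exists_three (h.hel S) h4
    have ht₃ : t₁ * t₂ ∈ (S : Subgroup Y) := mul_mem ht₁ ht₂
    -- the conjugation automorphism of `N` by `t`
    let σ : ∀ t : Y, N →* N := fun t =>
      { toFun := fun n => ⟨(t : Y ⧸ KK Y) * n * (t : Y ⧸ KK Y)⁻¹, hN.conj_mem _ n.2 _⟩
        map_one' := by
          apply Subtype.ext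
          simp
        map_mul' := fun a b => by
          apply Subtype.ext
          simp only [Subgroup.coe_mul]
          group }
    have hσc : ∀ (t : Y) (n : N), ((σ t n : N) : Y ⧸ KK Y) = (t : Y ⧸ KK Y) * n * (t : Y ⧸ KK Y)⁻¹ :=
      fun _ _ => rfl
    have hfix : ∀ t ∈ (S : Subgroup Y), orderOf t = 2 → ∀ x : N, σ t x = x → x = 1 := by
      intro t ht ho x hx
      have hcomm : (t : Y ⧸ KK Y) * x = x * (t : Y ⧸ KK Y) := by
        have h1 := congrArg (Subtype.val) hx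
        rw [hσc] at h1
        exact mul_inv_eq_iff_eq_mul.mp h1
      have h1 : t • ((x : Y ⧸ KK Y) • S) = (x : Y ⧸ KK Y) • S := by
        have e1 : t • ((x : Y ⧸ KK Y) • S) = (t : Y ⧸ KK Y) • ((x : Y ⧸ KK Y) • S) := rfl
        rw [e1, ← mul_smul, hcomm, mul_smul, mk_smul]
        have e2 : t • S = S := (smul_eq_iff h₀ ho ht S).mpr rfl
        rw [e2]
      have h2 : (x : Y ⧸ KK Y) • S = S := (smul_eq_iff h₀ ho ht _).mp h1
      have h3 : x ∈ MulAction.stabilizer N S := h2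
      rw [hno S, Subgroup.mem_bot] at h3
      exact h3
    have hinvo : ∀ t : Y, orderOf t = 2 → ∀ x : N, σ t (σ t x) = x := by
      intro t ho x
      apply Subtype.ext
      rw [hσc, hσc]
      have h1 : (t : Y ⧸ KK Y) * t = 1 := by
        have : t * t = 1 := by
          rw [← pow_two, ← ho]
          exact pow_orderOf_eq_one t
        rw [← QuotientGroup.mk_mul, this]
        rfl
      have h2 : (t : Y ⧸ KK Y)⁻¹ = t := by
        rw [inv_eq_iff_mul_eq_one]
        exact h1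
      rw [h2]
      calc (t : Y ⧸ KK Y) * ((t : Y ⧸ KK Y) * x * t) * t
          = ((t : Y ⧸ KK Y) * t) * x * (t * t) := by group
        _ = x := by rw [h1]; group
    have hall : ∀ x : N, x = 1 := by
      intro x
      have h1 := inv_of_fpf (σ t₁) (hinvo t₁ ho₁) (hfix t₁ ht₁ ho₁) 
      have h2 := inv_of_fpf (σ t₂) (hinvo t₂ ho₂) (hfix t₂ ht₂ ho₂)
      apply hfix (t₁ * t₂) ht₃ ho₃
      apply Subtype.ext
      rw [hσc]
      have e1 : (((t₁ * t₂ : Y)) : Y ⧸ KK Y) = (t₁ : Y ⧸ KK Y) * t₂ := rfl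
      rw [e1]
      have e2 : (t₁ : Y ⧸ KK Y) * t₂ * x * ((t₁ : Y ⧸ KK Y) * t₂)⁻¹ = ((σ t₁ (σ t₂ x) : N) : Y ⧸ KK Y) := by
        rw [hσc, hσc]
        group
      rw [e2, h2, map_inv, h1, inv_inv]
    obtain ⟨n, hn⟩ := MulAction.exists_smul_eq N S S'
    rw [hall n] at hn
    exact hS' (by simpa using hn.symm)

omit h in
/-- The order of an image in the quotient by `KK`. -/
theorem card_map_mul_aux {A : Subgroup Y} (hA : KK Y ≤ A) :
    Nat.card (A.map (QuotientGroup.mk' (KK Y))) * Nat.card (KK Y) = Nat.card A := by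
  let f := (QuotientGroup.mk' (KK Y)).comp A.subtype
  have hr : f.range = A.map (QuotientGroup.mk' (KK Y)) := by
    rw [MonoidHom.range_comp, Subgroup.range_subtype]
  have hk : f.ker = (KK Y).subgroupOf A := by
    ext a
    simp [f, MonoidHom.mem_ker, Subgroup.mem_subgroupOf]
  have h1 := Subgroup.card_mul_index f.ker
  rw [Subgroup.index_ker, hr, hk, Nat.card_congr (Subgroup.subgroupOfEquivOfLe hA).toEquiv] at h1
  rw [mul_comm]
  exact h1

theorem syl_le_cent_aux (S : Sylow 2 Y) : (S : Subgroup Y) ≤ CC (S : Subgroup Y) := by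
  intro a ha
  rw [mem_centralizer_iff]
  intro b hb
  haveI : Fact (Nat.Prime 2) := ⟨Nat.prime_two⟩
  exact h.hab 2 S b hb a ha

theorem card_map_syl_aux (S : Sylow 2 Y) :
    Nat.card ((S : Subgroup Y).map (QuotientGroup.mk' (KK Y))) = 2 ^ n := by
  let f := (QuotientGroup.mk' (KK Y)).comp (S : Subgroup Y).subtype
  have hr : f.range = (S : Subgroup Y).map (QuotientGroup.mk' (KK Y)) := by
    rw [MonoidHom.range_comp, Subgroup.range_subtype]
  have hf : Function.Injective f := by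
    rw [injective_iff_map_eq_one]
    intro a ha
    have h1 : (a : Y) ∈ KK Y := (QuotientGroup.eq_one_iff _).1 ha
    exact Subtype.ext (KK_inter_syl_aux h a.2 h1)
  rw [← hr, ← Nat.card_congr (MonoidHom.ofInjective hf).toEquiv]
  exact h.hcard S

/-- The image of `C(S)` has order `2^n`, and `|Syl| = 2^n + 1`. -/
theorem feit_aux (hD : ∀ S S' : Sylow 2 Y, S ≠ S' → D0 S S' ≤ KK Y) (S : Sylow 2 Y) :
    Nat.card ((CC (S : Subgroup Y)).map (QuotientGroup.mk' (KK Y))) = 2 ^ n ∧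
      Nat.card (Sylow 2 Y) = 2 ^ n + 1 := by
  classical
  letI : Fintype (Y ⧸ KK Y) := Fintype.ofFinite _
  letI : Fintype (Sylow 2 Y) := Fintype.ofFinite _
  obtain ⟨S', hS'⟩ := CA.exists_other h.toCls0 S
  have hne : S ≠ S' := fun e => hS' e.symm
  have hD0 : D0 S S' = KK Y := le_antisymm (hD S S' hne) (KK_le_D0 h S S')
  set π := QuotientGroup.mk' (KK Y) with hπ
  set H := (CC (S : Subgroup Y)).map π with hH
  have hKpos : 0 < Nat.card (KK Y) := Nat.card_pos
  have hKC : KK Y ≤ CC (S : Subgroup Y) := (KK_le_D0 h S S').trans inf_le_right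
  have hHK : Nat.card H * Nat.card (KK Y) = Nat.card (CC (S : Subgroup Y)) := card_map_mul_aux hKC
  have hsyl := card_syl_mul h hne
  rw [hD0] at hsyl
  have hHc : Nat.card H = Nat.card (Sylow 2 Y) - 1 :=
    Nat.eq_of_mul_eq_mul_right hKpos (hHK.trans hsyl.symm)
  have hΩpos : 0 < Nat.card (Sylow 2 Y) := Nat.card_pos
  have hHc' : Nat.card H + 1 = Nat.card (Sylow 2 Y) := by omega
  -- the two point stabilizer
  have hKD : KK Y ≤ DD S S' := (KK_le_D0 h S S').trans inf_le_left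
  have hE : Cfsg.Agent.Lib.Zass.Stab.E (G := Y ⧸ KK Y) S S' = (DD S S').map π := by
    ext q
    obtain ⟨g, rfl⟩ := QuotientGroup.mk_surjective q
    constructor
    · rintro ⟨h1, h2⟩
      exact ⟨g, mem_DD.2 ⟨h1, h2⟩, rfl⟩
    · rintro ⟨d, hd, hde⟩
      have hd' := mem_DD.1 hd
      have hde' : (d : Y ⧸ KK Y) = (g : Y ⧸ KK Y) := hde
      refine ⟨?_, ?_⟩
      · show (g : Y ⧸ KK Y) • S = S
        rw [← hde', mk_smul]
        exact hd'.1
      · show (g : Y ⧸ KK Y) • S' = S'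
        rw [← hde', mk_smul]
        exact hd'.2
  have hEc : Nat.card (Cfsg.Agent.Lib.Zass.Stab.E (G := Y ⧸ KK Y) S S') = 2 ^ n - 1 := by
    rw [hE]
    have h1 : Nat.card ((DD S S').map π) * Nat.card (KK Y) = Nat.card (DD S S') := card_map_mul_aux hKD
    obtain ⟨_, _, _, _, _, _, _, _, h2⟩ := exists_pi h hne
    rw [hD0] at h2
    exact Nat.eq_of_mul_eq_mul_right hKpos (h1.trans h2)
  have hn1 : 2 ≤ n := h.hn
  have h2n : 4 ≤ 2 ^ n := by
    calc 4 = 2 ^ 2 := by norm_num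
      _ ≤ 2 ^ n := Nat.pow_le_pow_right (by norm_num) hn1
  have hodd : Odd (2 ^ n - 1) := by
    obtain ⟨k, hk⟩ : 2 ∣ 2 ^ n := dvd_pow_self 2 (by omega)
    exact ⟨k - 1, by omega⟩
  -- the data
  have hData : Cfsg.Agent.Lib.Zass.Infl.Data (G := Y ⧸ KK Y) S S' H := by
    refine ⟨isZass h hD, hne, ?_, ?_, ?_⟩
    · rintro _ ⟨c, hc, rfl⟩
      show (c : Y ⧸ KK Y) • S = S
      rw [mk_smul]
      exact mem_NN.1 (CC_le_NN _ hc)
    · rw [← Nat.card_eq_fintype_card]
      exact hHc'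
    · rintro _ ⟨c, hc, rfl⟩ hu R hR
      by_contra hRS
      apply hu
      have hR' : c • R = R := hR
      have hcS : c • S = S := mem_NN.1 (CC_le_NN _ hc)
      have hcD : c ∈ D0 S R := ⟨mem_DD.2 ⟨hcS, hR'⟩, hc⟩
      have hck := hD S R (Ne.symm hRS) hcD
      exact (QuotientGroup.eq_one_iff c).2 hck
  -- the image of `S`
  have hB := card_map_syl_aux h S
  have hBH : (S : Subgroup Y).map π ≤ H := Subgroup.map_mono (syl_le_cent_aux h S)
  obtain ⟨k, hk⟩ := Subgroup.card_dvd_of_le hBH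
  rw [hB] at hk
  have hHpos : 0 < Nat.card H := Nat.card_pos
  have hk0 : 0 < k := by
    rcases Nat.eq_zero_or_pos k with h0 | h0
    · rw [h0, mul_zero] at hk
      omega
    · exact h0
  have hk1 : k = 1 := by
    rcases Cfsg.Agent.Lib.Zass.FeitMain.main hData (by rw [hEc]; exact hodd) with h1 | ⟨h1, -⟩
    · rw [hEc] at h1
      by_contra hne1
      have h2 : 2 ≤ k := by omega
      have h3 : 2 ^ n * 2 ≤ 2 ^ n * k := Nat.mul_le_mul_left _ h2
      omega
    · obtain ⟨m, hm⟩ := (IsPGroup.iff_card (p := 2) (G := H)).1 h1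
      have h3 : Nat.card H ∣ Nat.card Y :=
        (Subgroup.card_subgroup_dvd_card H).trans (Subgroup.card_quotient_dvd_card (KK Y))
      have hY : Nat.card Y ≠ 0 := Nat.card_pos.ne'
      rw [hm] at h3
      have h4 := (Nat.Prime.pow_dvd_iff_le_factorization Nat.prime_two hY).1 h3
      have h5 : Nat.card S = 2 ^ (Nat.card Y).factorization 2 := Sylow.card_eq_multiplicity S
      have h6 : Nat.card S = 2 ^ n := h.hcard S
      have h7 : (2 : ℕ) ^ m ≤ 2 ^ n := by
        rw [← h6, h5]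
        exact Nat.pow_le_pow_right (by norm_num) h4
      rw [← hm, hk] at h7
      by_contra hne1
      have h2 : 2 ≤ k := by omega
      have h3 : 2 ^ n * 2 ≤ 2 ^ n * k := Nat.mul_le_mul_left _ h2
      omega
  rw [hk1, mul_one] at hk
  exact ⟨hk, by rw [← hHc', hk]⟩

/-- [CC2] Feit's inequality: `C(S) = S * KK`, `|Sylow| = 2^n + 1`. `Data S S' H` with `H` the image of `C(S)`. -/
theorem feit (hD : ∀ S S' : Sylow 2 Y, S ≠ S' → D0 S S' ≤ KK Y) :
    Nat.card (Sylow 2 Y) = 2 ^ n + 1 ∧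
      ∀ S : Sylow 2 Y, ∀ c ∈ CC (S : Subgroup Y), ∃ s ∈ (S : Subgroup Y), ∃ z ∈ KK Y, c = s * z := by
  refine ⟨(feit_aux h hD default).2, ?_⟩
  intro S c hc
  have hle : (S : Subgroup Y).map (QuotientGroup.mk' (KK Y)) ≤ (CC (S : Subgroup Y)).map (QuotientGroup.mk' (KK Y)) :=
    Subgroup.map_mono (syl_le_cent_aux h S)
  have hBH := Subgroup.eq_of_le_of_card_ge hle (by rw [(feit_aux h hD S).1, card_map_syl_aux h S])
  have hmem : QuotientGroup.mk' (KK Y) c ∈ (S : Subgroup Y).map (QuotientGroup.mk' (KK Y)) := by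
    rw [hBH]
    exact ⟨c, hc, rfl⟩
  obtain ⟨s, hs, hse⟩ := hmem
  refine ⟨s, hs, s⁻¹ * c, ?_, by group⟩
  exact QuotientGroup.eq.1 hse

/-- [CC3] S1230 for the quotient. -/
theorem psl_quot (hcard : Nat.card (Sylow 2 Y) = 2 ^ n + 1)
    (hcent : ∀ S : Sylow 2 Y, ∀ c ∈ CC (S : Subgroup Y), ∃ s ∈ (S : Subgroup Y), ∃ z ∈ KK Y, c = s * z) :
    ∃ (F : Type) (_ : Field F) (_ : Fintype F), Fintype.card F = 2 ^ n ∧
      Nonempty ((Y ⧸ KK Y) ≃* Matrix.ProjectiveSpecialLinearGroup (Fin 2) F) := by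
  classical
  haveI : Fact (Nat.Prime 2) := ⟨Nat.prime_two⟩
  have hsurj : Function.Surjective (QuotientGroup.mk' (KK Y)) := QuotientGroup.mk'_surjective _
  have hKodd : Odd (Nat.card (KK Y)) := odd_KK h
  have hKinv : ∀ z ∈ KK Y, z * z = 1 → z = 1 := by
    intro z hz hzz
    have h1 : orderOf (⟨z, hz⟩ : KK Y) ∣ Nat.card (KK Y) := orderOf_dvd_natCard _
    have h2 : orderOf (⟨z, hz⟩ : KK Y) ∣ 2 := by
      apply orderOf_dvd_of_pow_eq_one
      apply Subtype.ext
      simpa [pow_two] using hzz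
    have h3 : Nat.Coprime 2 (Nat.card (KK Y)) := Nat.coprime_two_left.2 hKodd
    have h4 : orderOf (⟨z, hz⟩ : KK Y) = 1 := Nat.eq_one_of_dvd_coprimes h3 h2 h1
    have h5 := orderOf_eq_one_iff.1 h4
    simpa using congrArg Subtype.val h5
  have hS0 : ∀ S : Sylow 2 Y, ∀ a ∈ (S : Subgroup Y), a ^ 2 = 1 := fun S a ha => by
    rw [pow_two]; exact h.hel S a ha
  -- Lifting squares: if `mk g` lies in the image of `S` and `g` is an involution then `g ∈ S`.
  have hlift : ∀ (S : Sylow 2 Y) (g : Y), g * g = 1 →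
      QuotientGroup.mk' (KK Y) g ∈ (S : Subgroup Y).map (QuotientGroup.mk' (KK Y)) → g ∈ (S : Subgroup Y) := by
    rintro S g hg ⟨s, hs, hse⟩
    have hz : s⁻¹ * g ∈ KK Y := QuotientGroup.eq.1 hse
    have hzc : s⁻¹ * g ∈ center Y := KK_central h hz
    have hzz : (s⁻¹ * g) * (s⁻¹ * g) = 1 := by
      have e1 : (s⁻¹ * g) * (s⁻¹ * g) = s⁻¹ * (s⁻¹ * g) * g := by
        have e := Subgroup.mem_center_iff.1 hzc s⁻¹
        calc (s⁻¹ * g) * (s⁻¹ * g) = ((s⁻¹ * g) * s⁻¹) * g := by group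
          _ = s⁻¹ * (s⁻¹ * g) * g := by rw [e]
      rw [e1]
      have e2 : s⁻¹ * s⁻¹ = 1 := by
        have := h.hel S s⁻¹ ((S : Subgroup Y).inv_mem hs)
        exact this
      calc s⁻¹ * (s⁻¹ * g) * g = (s⁻¹ * s⁻¹) * (g * g) := by group
        _ = 1 := by rw [e2, hg, one_mul]
    have hz1 := hKinv _ hz hzz
    have : g = s := (inv_mul_eq_one.1 hz1).symm
    rw [this]; exact hs
  let S₀ : Sylow 2 Y := default
  let T : Sylow 2 (Y ⧸ KK Y) := S₀.mapSurjective hsurj
  have hT : ((T : Subgroup (Y ⧸ KK Y))) = (S₀ : Subgroup Y).map (QuotientGroup.mk' (KK Y)) :=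
    Sylow.coe_mapSurjective hsurj S₀
  have hTc : Nat.card T = 2 ^ n := by
    have := card_map_syl_aux h S₀
    rw [← hT] at this
    exact this
  have h2n : 4 ≤ 2 ^ n := by
    calc 4 = 2 ^ 2 := by norm_num
      _ ≤ 2 ^ n := Nat.pow_le_pow_right (by norm_num) h.hn
  have hnc : ¬ IsCyclic (T : Subgroup (Y ⧸ KK Y)) := by
    intro hcyc
    obtain ⟨g, hg⟩ := isCyclic_iff_exists_orderOf_eq_natCard.1 hcyc
    have h1 : g ^ 2 = 1 := by
      apply Subtype.ext
      obtain ⟨s, hs, hse⟩ := (by rw [← hT]; exact g.2 :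
        (g : Y ⧸ KK Y) ∈ (S₀ : Subgroup Y).map (QuotientGroup.mk' (KK Y)))
      have : ((g : Y ⧸ KK Y)) ^ 2 = 1 := by
        rw [← hse, ← map_pow, hS0 S₀ s hs, map_one]
      simpa using this
    have h3 := orderOf_le_of_pow_eq_one (by norm_num) h1
    have h4 : Nat.card (T : Subgroup (Y ⧸ KK Y)) = 2 ^ n := hTc
    rw [hg, h4] at h3
    omega
  have hinv_lift : ∀ t : Y ⧸ KK Y, orderOf t = 2 →
      ∃ x : Y, orderOf x = 2 ∧ QuotientGroup.mk' (KK Y) x = t := by
    intro t ht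
    obtain ⟨y, rfl⟩ := hsurj t
    refine ⟨y ^ Nat.card (KK Y), ?_, ?_⟩
    · have hy2 : y ^ 2 ∈ KK Y := by
        have : QuotientGroup.mk' (KK Y) (y ^ 2) = 1 := by
          rw [map_pow, ← ht, pow_orderOf_eq_one]
        exact (QuotientGroup.eq_one_iff _).1 this
      have h1 : (y ^ Nat.card (KK Y)) ^ 2 = 1 := by
        rw [← pow_mul, mul_comm, pow_mul]
        have h2 : ((⟨y ^ 2, hy2⟩ : KK Y) ^ Nat.card (KK Y) : KK Y) = 1 := pow_card_eq_one'
        exact congrArg Subtype.val h2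
      refine orderOf_eq_prime h1 ?_
      intro hne
      obtain ⟨k, hk⟩ := hKodd
      have h2 : QuotientGroup.mk' (KK Y) y ^ Nat.card (KK Y) = 1 := by
        rw [← map_pow, hne, map_one]
      have h3 : (QuotientGroup.mk' (KK Y) y) ^ 2 = 1 := by
        rw [← ht, pow_orderOf_eq_one]
      have h4 : QuotientGroup.mk' (KK Y) y = 1 := by
        rw [hk, pow_succ, pow_mul, h3, one_pow, one_mul] at h2
        exact h2
      rw [h4, orderOf_one] at ht
      omega
    · obtain ⟨k, hk⟩ := hKodd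
      have h3 : (QuotientGroup.mk' (KK Y) y) ^ 2 = 1 := by
        rw [← ht, pow_orderOf_eq_one]
      rw [map_pow, hk, pow_succ, pow_mul, h3, one_pow, one_mul]
  have hnn : ¬ (T : Subgroup (Y ⧸ KK Y)).Normal := by
    intro hN
    obtain ⟨S', hS'⟩ := CA.exists_other h.toCls0 S₀
    obtain ⟨g, hg⟩ := MulAction.exists_smul_eq Y S₀ S'
    apply hS'
    rw [← hg]
    -- an involution in `S₀`
    obtain ⟨t, htS, ht⟩ : ∃ t ∈ (S₀ : Subgroup Y), orderOf t = 2 := by
      have hne : (S₀ : Subgroup Y) ≠ ⊥ := by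
        intro hb
        have h1 := h.hcard S₀
        have h2 : Nat.card (S₀ : Subgroup Y) = 1 := by rw [hb]; simp
        have h3 : Nat.card S₀ = Nat.card (S₀ : Subgroup Y) := rfl
        rw [h3, h2] at h1
        omega
      obtain ⟨⟨a, ha⟩, ha1⟩ := Subgroup.ne_bot_iff_exists_ne_one.1 hne
      exact ⟨a, ha, orderOf_eq_prime (hS0 S₀ a ha) (fun e => ha1 (Subtype.ext e))⟩
    have hconj : g * t * g⁻¹ ∈ (S₀ : Subgroup Y) := by
      apply hlift S₀
      · have := h.hel S₀ t htS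
        calc g * t * g⁻¹ * (g * t * g⁻¹) = g * (t * t) * g⁻¹ := by group
          _ = 1 := by rw [this]; group
      · rw [← hT]
        have h1 : QuotientGroup.mk' (KK Y) t ∈ (T : Subgroup (Y ⧸ KK Y)) := by
          rw [hT]; exact ⟨t, htS, rfl⟩
        have := hN.conj_mem _ h1 (QuotientGroup.mk' (KK Y) g)
        simpa [map_mul, map_inv] using this
    have hconj2 := CA.conj_mem_smul g t S₀ htS
    have hord : orderOf (g * t * g⁻¹) = 2 := by
      have : g * t * g⁻¹ = MulAut.conj g t := rfl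
      rw [this, MulEquiv.orderOf_eq]
      exact ht
    exact CA.syl_unique h.toCls0 hord hconj2 hconj
  have hsq : ∀ t : Y ⧸ KK Y, orderOf t = 2 → ∀ c ∈ Subgroup.centralizer ({t} : Set (Y ⧸ KK Y)), c ^ 2 = 1 := by
    intro t ht c hc
    obtain ⟨x, hx, rfl⟩ := hinv_lift t ht
    obtain ⟨c, rfl⟩ := hsurj c
    have hcm : QuotientGroup.mk' (KK Y) (c * x * c⁻¹ * x⁻¹) = 1 := by
      have h1 : QuotientGroup.mk' (KK Y) c * QuotientGroup.mk' (KK Y) x =
          QuotientGroup.mk' (KK Y) x * QuotientGroup.mk' (KK Y) c := by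
        have := Subgroup.mem_centralizer_iff.1 hc _ (Set.mem_singleton _)
        exact this.symm
      simp only [map_mul, map_inv, h1]
      group
    have hzK : c * x * c⁻¹ * x⁻¹ ∈ KK Y := (QuotientGroup.eq_one_iff _).1 hcm
    have hzc := KK_central h hzK
    have hx2 : x * x = 1 := by
      have := pow_orderOf_eq_one x
      rw [hx, pow_two] at this
      exact this
    have hxi : x⁻¹ = x := by
      rw [inv_eq_iff_mul_eq_one]; exact hx2
    have hcx : c * x * c⁻¹ = (c * x * c⁻¹ * x⁻¹) * x := by group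
    have hzz : (c * x * c⁻¹ * x⁻¹) * (c * x * c⁻¹ * x⁻¹) = 1 := by
      set z := c * x * c⁻¹ * x⁻¹ with hz
      have h1 : (c * x * c⁻¹) * (c * x * c⁻¹) = 1 := by
        calc (c * x * c⁻¹) * (c * x * c⁻¹) = c * (x * x) * c⁻¹ := by group
          _ = 1 := by rw [hx2]; group
      rw [hcx] at h1
      have h2 : z * x * (z * x) = z * z * (x * x) := by
        have e := Subgroup.mem_center_iff.1 hzc x
        calc z * x * (z * x) = z * (x * z) * x := by group
          _ = z * (z * x) * x := by rw [e]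
          _ = z * z * (x * x) := by group
      rw [h2, hx2, mul_one] at h1
      exact h1
    have hz1 := hKinv _ hzK hzz
    have hcomm : c * x = x * c := by
      have h1 : c * x * c⁻¹ = x := by
        have := mul_inv_eq_one.1 hz1
        exact this
      calc c * x = c * x * c⁻¹ * c := by group
        _ = x * c := by rw [h1]
    obtain ⟨S, hS⟩ := CA.exists_syl h.toCls0 hx
    have hcN : c ∈ NN (S : Subgroup Y) := CA.cent_le h.toCls0 hx hS hcomm
    have hcop : (orderOf c).Coprime (2 ^ n - 1) := by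
      rw [Nat.coprime_comm, Nat.Prime.coprime_iff_not_dvd h.hp]
      intro hd
      obtain ⟨m, hm⟩ := hd
      have hpos : 0 < orderOf c := orderOf_pos c
      have hord : orderOf (c ^ m) = 2 ^ n - 1 := by
        rw [orderOf_pow' c (by
          rintro rfl
          rw [mul_zero] at hm
          omega)]
        rw [hm]
        rw [Nat.gcd_eq_right (Dvd.intro_left _ rfl)]
        exact Nat.mul_div_cancel _ (Nat.pos_of_ne_zero (by
          rintro rfl
          rw [mul_zero] at hm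
          omega))
      have hcomm2 : x * c ^ m = c ^ m * x := ((Commute.pow_left (show Commute c x from hcomm) m)).eq.symm
      exact no_r_comm h hord hx hcomm2
    have hcC : c ∈ CC (S : Subgroup Y) := mem_CC_of_coprime h hcN hcop
    obtain ⟨s, hs, z, hz, rfl⟩ := hcent S c hcC
    have hz' : QuotientGroup.mk' (KK Y) z = 1 := (QuotientGroup.eq_one_iff _).2 hz
    rw [map_mul, hz', mul_one, ← map_pow, hS0 S s hs, map_one]
  have hC : ∀ t : Y ⧸ KK Y, orderOf t = 2 →
      IsMulCommutative (Subgroup.centralizer ({t} : Set (Y ⧸ KK Y))) ∧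
        ∀ c ∈ Subgroup.centralizer ({t} : Set (Y ⧸ KK Y)), c ^ 2 = 1 := by
    intro t ht
    refine ⟨⟨⟨fun a b => ?_⟩⟩, hsq t ht⟩
    apply Subtype.ext
    have ha := hsq t ht a a.2
    have hb := hsq t ht b b.2
    have hab := hsq t ht (a * b) (a * b).2
    have hab' : ((a : Y ⧸ KK Y) * b) ^ 2 = 1 := by simpa using hab
    rw [pow_two] at ha hb hab'
    show (a : Y ⧸ KK Y) * b = b * a
    have e3 : (a : Y ⧸ KK Y)⁻¹ = a := by
      rw [inv_eq_iff_mul_eq_one]
      exact ha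
    have e4 : (b : Y ⧸ KK Y)⁻¹ = b := by
      rw [inv_eq_iff_mul_eq_one]
      exact hb
    have e5 : ((a : Y ⧸ KK Y) * b)⁻¹ = a * b := by
      rw [inv_eq_iff_mul_eq_one]
      exact hab'
    rw [← e5, mul_inv_rev, e3, e4]
  obtain ⟨F, i1, i2, hF, he⟩ := Cfsg.Agent.S1230.result T hnc hnn hC
  exact ⟨F, i1, i2, by rw [hF, hTc], he⟩

omit h in
/-- [CC4] In `PSL₂(F)`, char 2, every element of odd order is inverted by an involution. In `SL₂(F)` with
`g = [[a,b],[c,d]]`, `t = a + d`: `c ≠ 0`: `w = [[1, t/c],[0,1]]`; `b ≠ 0`: `w = [[1,0],[t/b,1]]`; `b = c = 0`: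
`w = [[0,1],[1,0]]`. `t ≠ 0` since `g` has odd order and `g² = t g + 1`. Use `TICent.Invol.sl_equiv_psl`. -/
theorem psl_inverted {F : Type} [Field F] [Fintype F] (hF : (2 : F) = 0)
    (g : Matrix.ProjectiveSpecialLinearGroup (Fin 2) F) (hg : Odd (orderOf g)) (hg1 : g ≠ 1) :
    ∃ s, orderOf s = 2 ∧ s * g * s⁻¹ = g⁻¹ :=
  Cfsg.Agent.Lib.EqOrd.InvH.psl_inverted' hF g hg hg1

/-- [CC4] Lifting from `Y ⧸ KK` to `Y`. -/
theorem inv_lift (F : Type) [Field F] [Fintype F] (hF : Fintype.card F = 2 ^ n)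
    (e : (Y ⧸ KK Y) ≃* Matrix.ProjectiveSpecialLinearGroup (Fin 2) F) (q : ℕ) (hq : q.Prime)
    (hq2 : q ≠ 2) (hqd : q ∣ 2 ^ n + 1) :
    ∃ x s : Y, orderOf x = q ∧ orderOf s = 2 ∧ s * x * s⁻¹ = x⁻¹ := by
  have hF2 : (2 : F) = 0 := by
    have h1 : ((Fintype.card F : ℕ) : F) = 0 := FiniteField.cast_card_eq_zero F
    rw [hF] at h1
    push_cast at h1
    exact eq_zero_of_pow_eq_zero h1
  obtain ⟨e₂⟩ := Cfsg.Agent.Lib.EqOrd.InvH.sl_equiv_psl' hF2
  have hc : Nat.card (Matrix.ProjectiveSpecialLinearGroup (Fin 2) F) =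
      2 ^ n * ((2 ^ n - 1) * (2 ^ n + 1)) := by
    rw [← Nat.card_congr e₂.toEquiv, Cfsg.Agent.Lib.Classical.SL2Sylow.card_SL2, hF]
  have hq' : q ∣ Nat.card (Matrix.ProjectiveSpecialLinearGroup (Fin 2) F) := by
    rw [hc]
    exact Dvd.dvd.mul_left (Dvd.dvd.mul_left hqd _) _
  haveI := Fact.mk hq
  obtain ⟨g, hg⟩ := exists_prime_orderOf_dvd_card' q hq'
  have hodd : Odd (orderOf g) := by rw [hg]; exact hq.odd_of_ne_two hq2
  have hg1 : g ≠ 1 := by
    rintro rfl
    rw [orderOf_one] at hg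
    exact hq.ne_one hg.symm
  obtain ⟨s, hs, hsg⟩ := psl_inverted hF2 g hodd hg1
  refine Cfsg.Agent.Lib.EqOrd.InvH.inv_lift' (KK Y) (odd_KK h) q hq hq2 (e.symm g) (e.symm s) ?_ ?_ ?_
  · rw [MulEquiv.orderOf_eq, hg]
  · rw [MulEquiv.orderOf_eq, hs]
  · have := congrArg e.symm hsg
    simpa using this

/-- Base case assembled. -/
theorem base (hD : ∀ S S' : Sylow 2 Y, S ≠ S' → D0 S S' ≤ KK Y) : Concl Y n := by
  obtain ⟨hcard, hcent⟩ := feit h hD
  refine ⟨hcard, ?_, ?_⟩
  · intro S c hc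
    obtain ⟨s, hs, z, hz, rfl⟩ := hcent S c hc
    exact ⟨s, hs, z, KK_central h hz, rfl⟩
  · intro q hq hq2 hqd
    obtain ⟨F, iF, iF', hF, ⟨e⟩⟩ := psl_quot h hcard hcent
    exact inv_lift h F hF e q hq hq2 hqd

end Cfsg.Agent.Lib.EqOrd.CC
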