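/-
S4021. [CD1,CD2,CD3] Core, inductive step, and the core theorem. See PLAN.md.
-/
import Cfsg.Agent.Lib.EqOrd.CC
import Cfsg.Agent.Lib.EqOrd.RhoAux
import Cfsg.Agent.Lib.Transfer.Focal
import Cfsg.Agent.Lib.Involutions2.KleinSylow
import Cfsg.Agent.S0205

set_option autoImplicit false
set_option linter.style.haveILetI false
set_option linter.unusedSectionVars false

namespace Cfsg.Agent.Lib.EqOrd.CD

open Subgroup Cfsg.Agent.Lib.EqOrd.Defs Cfsg.Agent.Lib.EqOrd.CA Cfsg.Agent.Lib.EqOrd.CB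

universe u

variable {Y : Type u} [Group Y] [Finite Y] {n : ℕ}

/-- The subgroup generated by the Sylow subgroups fixed by `x`. -/
def X0 (x : Y) : Subgroup Y := ⨆ S : {S : Sylow 2 Y // x • S = S}, (S.1 : Subgroup Y)

variable (h : Cls Y n)
include h

/-- [CD1] A nontrivial odd group quotient: a prime `q`, a nontrivial finite commutative `q`-group `B`, a hom
`ρ : D →* B`, onto, trivial on `K`. (`D/K` is solvable by S0205; `Abelianization`; `powMonoidHom`.) -/
theorem exists_rho {D K : Subgroup Y} (hK : K ≤ D) (hnK : (K.subgroupOf D).Normal)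
    (hodd : Odd (Nat.card D)) (hne : ¬ D ≤ K) :
    ∃ (q : ℕ) (_ : q.Prime) (B : Type) (_ : CommGroup B) (_ : Finite B), Nontrivial B ∧ IsPGroup q B ∧
      ∃ ρ : D →* B, Function.Surjective ρ ∧ ∀ k : D, (k : Y) ∈ K → ρ k = 1 := by
  haveI := hnK
  exact RhoAux.exists_rho_of_solv hnK
    (Cfsg.Agent.S0205.result (Odd.of_dvd_nat hodd (Subgroup.card_quotient_dvd_card _))) hne

/-- [CD1] If `x` is a `q`-element, `q ≠ 2`, `q ≠ r`, `x ∈ N(R)`, then `x` centralizes `R`. `X0 x ≤ C(x)`. -/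
theorem X0_le_cent {x : Y} (hx : x ∈ center Y ∨ True) (hq : (orderOf x).Coprime (2 ^ n - 1)) :
    X0 x ≤ centralizer {x} := by
  refine iSup_le fun S s hs => ?_
  have h1 : x ∈ NN (S.1 : Subgroup Y) := CB.mem_NN.2 S.2
  have h2 : x ∈ CC (S.1 : Subgroup Y) := CB.mem_CC_of_coprime h h1 hq
  rw [Subgroup.mem_centralizer_iff]
  intro y hy
  rw [Set.mem_singleton_iff] at hy
  subst hy
  exact ((Subgroup.mem_centralizer_iff.1 h2) s hs).symm

section HelperX0

omit h

/-- A fixed Sylow subgroup lies in `X0 x`. -/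
theorem le_X0 {x : Y} (R : Sylow 2 Y) (hR : x • R = R) : (R : Subgroup Y) ≤ X0 x :=
  le_iSup (fun S : {S : Sylow 2 Y // x • S = S} => (S.1 : Subgroup Y)) ⟨R, hR⟩

/-- Generic index lemma. -/
theorem card_of_not_le_X0 {W C A : Subgroup Y} {r : ℕ} (hrp : r.Prime) (hCW : C ≤ W)
    (hC : ∀ w ∈ W, ∀ c ∈ C, w * c * w⁻¹ ∈ C) (hAW : A ≤ W)
    (hr : Nat.card W = r * Nat.card C) (hne : ¬ A ≤ C) :
    Nat.card A = r * Nat.card (A ⊓ C : Subgroup Y) := by
  classical
  have hn : (C.subgroupOf W).Normal := by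
    constructor
    intro n hn g
    rw [Subgroup.mem_subgroupOf] at hn ⊢
    exact hC g.1 g.2 n.1 hn
  let f : A →* W ⧸ C.subgroupOf W := (QuotientGroup.mk' _).comp (Subgroup.inclusion hAW)
  have hker : Nat.card f.ker = Nat.card (A ⊓ C : Subgroup Y) := by
    refine Nat.card_congr ?_
    refine
      { toFun := fun a => ⟨a.1.1, a.1.2, ?_⟩
        invFun := fun a => ⟨⟨a.1, a.2.1⟩, ?_⟩
        left_inv := fun a => rfl
        right_inv := fun a => rfl }
    · have := a.2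
      rw [MonoidHom.mem_ker] at this
      have h2 : (Subgroup.inclusion hAW a.1 : W) ∈ C.subgroupOf W :=
        (QuotientGroup.eq_one_iff _).1 this
      simpa [Subgroup.mem_subgroupOf] using h2
    · rw [MonoidHom.mem_ker]
      refine (QuotientGroup.eq_one_iff _).2 ?_
      rw [Subgroup.mem_subgroupOf]
      exact a.2.2
  have hcardq : Nat.card (W ⧸ C.subgroupOf W) = r := by
    have h1 : Nat.card (C.subgroupOf W) * (C.subgroupOf W).index = Nat.card W :=
      Subgroup.card_mul_index _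
    have h2 : Nat.card (C.subgroupOf W) = Nat.card C :=
      Nat.card_congr (Subgroup.subgroupOfEquivOfLe hCW).toEquiv
    have h3 : (C.subgroupOf W).index = r := by
      rw [h2, hr, mul_comm r] at h1
      exact Nat.eq_of_mul_eq_mul_left Nat.card_pos h1
    exact h3
  have hdvd : Nat.card f.range ∣ r := by
    rw [← hcardq]
    exact Subgroup.card_subgroup_dvd_card _
  have hone : Nat.card f.range ≠ 1 := by
    intro h1
    apply hne
    intro a ha
    have : f ⟨a, ha⟩ = 1 := by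
      have hb : Subsingleton f.range := (Nat.card_eq_one_iff_unique.1 h1).1
      have := Subsingleton.elim (⟨f ⟨a, ha⟩, ⟨⟨a, ha⟩, rfl⟩⟩ : f.range) 1
      exact congrArg Subtype.val this
    have h2 : (Subgroup.inclusion hAW ⟨a, ha⟩ : W) ∈ C.subgroupOf W :=
      (QuotientGroup.eq_one_iff _).1 this
    simpa [Subgroup.mem_subgroupOf] using h2
  have hrange : Nat.card f.range = r := ((Nat.dvd_prime hrp).1 hdvd).resolve_left hone
  have := Subgroup.card_mul_index f.ker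
  rw [Subgroup.index_ker, hrange, hker] at this
  rw [← this, mul_comm]

/-- The Sylow subgroups of `X0 x` come from the fixed ones. -/
theorem exists_fixed_X0 (h : Cls Y n) {x : Y} (hq : (orderOf x).Coprime (2 ^ n - 1)) {S : Sylow 2 Y}
    (hS : x • S = S) (T : Sylow 2 ↥(X0 x)) :
    ∃ (R : Sylow 2 Y) (hR : x • R = R), T = R.subtype (le_X0 R hR) ∧
      (T : Subgroup ↥(X0 x)).map (X0 x).subtype = (R : Subgroup Y) := by
  classical
  have hcent := X0_le_cent h (x := x) (Or.inr trivial) hq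
  have hT : Nat.card T = 2 ^ n := by
    have h1 : Nat.card T = Nat.card (S.subtype (le_X0 S hS)) :=
      Nat.card_congr (Sylow.equiv T (S.subtype (le_X0 S hS))).toEquiv
    rw [h1, ← h.hcard S]
    exact Nat.card_congr (Subgroup.subgroupOfEquivOfLe (le_X0 S hS)).toEquiv
  have hP : IsPGroup 2 ((T : Subgroup ↥(X0 x)).map (X0 x).subtype) := T.2.map _
  obtain ⟨R, hR⟩ := hP.exists_le_sylow
  have hcard : Nat.card ((T : Subgroup ↥(X0 x)).map (X0 x).subtype) = 2 ^ n := by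
    rw [← hT]
    exact Subgroup.card_map_of_injective (X0 x).subtype_injective
  have heq : (T : Subgroup ↥(X0 x)).map (X0 x).subtype = (R : Subgroup Y) :=
    Subgroup.eq_of_le_of_card_ge hR (by rw [hcard, h.hcard R])
  have hRle : (R : Subgroup Y) ≤ X0 x := by
    rw [← heq]
    exact Subgroup.map_subtype_le _
  have hfix : x • R = R := by
    rw [← mem_NN]
    have hcomm : ∀ r ∈ (R : Subgroup Y), x * r * x⁻¹ = r := by
      intro r hr
      have := hcent (hRle hr)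
      rw [Subgroup.mem_centralizer_iff] at this
      have h2 := this x (Set.mem_singleton x)
      rw [h2, mul_inv_cancel_right]
    refine Subgroup.mem_normalizer_iff.2 (fun r => ⟨fun hr => ?_, fun hr => ?_⟩)
    · rw [hcomm r hr]
      exact hr
    · have h3 := hcomm _ hr
      have h4 : x * r * x⁻¹ = r := by
        have h5 : x * (x * r * x⁻¹) * x⁻¹ = x * r * x⁻¹ := h3
        have h6 := mul_left_cancel (a := x) (b := (x * r * x⁻¹) * x⁻¹) (c := r * x⁻¹)
          (by simpa [mul_assoc] using h5)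
        exact mul_right_cancel h6
      rw [← h4]
      exact hr
  refine ⟨R, hfix, ?_, heq⟩
  apply Sylow.ext
  rw [Sylow.coe_subtype, ← heq]
  ext a
  simp [Subgroup.mem_subgroupOf]

/-- `Cls0` for `X0 x`. -/
theorem cls0_X0 (h : Cls Y n) {x : Y} (hq : (orderOf x).Coprime (2 ^ n - 1)) {S S' : Sylow 2 Y}
    (hne : S ≠ S') (hS : x • S = S) (hS' : x • S' = S') : Cls0 ↥(X0 x) n := by
  classical
  refine
    { hn := h.hn
      hp := h.hp
      hcard := ?_
      hel := ?_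
      hcomm := ?_
      hcoinv := ?_
      hab := ?_
      hgen := ?_
      hnn := ?_ }
  · intro T
    obtain ⟨R, hR, -, heq⟩ := exists_fixed_X0 h hq hS T
    rw [← h.hcard R, ← heq]
    exact (Subgroup.card_map_of_injective (X0 x).subtype_injective).symm
  · intro T a ha
    obtain ⟨R, hR, -, heq⟩ := exists_fixed_X0 h hq hS T
    have h1 : (a : Y) ∈ (R : Subgroup Y) := by
      rw [← heq]
      exact ⟨a, ha, rfl⟩
    exact Subtype.ext (h.hel R _ h1)
  · intro t u v ht hu hv htu htv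
    refine Subtype.ext (h.hcomm t.1 u.1 v.1 ?_ ?_ ?_ ?_ ?_)
    · rw [Subgroup.orderOf_coe, ht]
    · rw [Subgroup.orderOf_coe, hu]
    · rw [Subgroup.orderOf_coe, hv]
    · exact congrArg Subtype.val htu
    · exact congrArg Subtype.val htv
  · intro q hq1 hq2 a b t s ha hb ht hs hta hsb
    refine h.hcoinv q hq1 hq2 a.1 b.1 t.1 s.1 ?_ ?_ ?_ ?_ ?_ ?_
    · rw [Subgroup.orderOf_coe, ha]
    · rw [Subgroup.orderOf_coe, hb]
    · rw [Subgroup.orderOf_coe, ht]
    · rw [Subgroup.orderOf_coe, hs]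
    · exact congrArg Subtype.val hta
    · exact congrArg Subtype.val hsb
  · intro q _ P a ha b hb
    have hP : IsPGroup q ((P : Subgroup ↥(X0 x)).map (X0 x).subtype) := P.2.map _
    obtain ⟨Q, hQ⟩ := hP.exists_le_sylow
    exact Subtype.ext (h.hab q Q a.1 (hQ ⟨a, ha, rfl⟩) b.1 (hQ ⟨b, hb, rfl⟩))
  · rw [eq_top_iff]
    intro a _
    have hle : X0 x ≤ (closure {t : ↥(X0 x) | orderOf t = 2}).map (X0 x).subtype := by
      refine iSup_le (fun R => ?_)
      intro r hr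
      by_cases hr1 : r = 1
      · rw [hr1]
        exact Subgroup.one_mem _
      · have hrX : r ∈ X0 x := le_X0 R.1 R.2 hr
        refine ⟨⟨r, hrX⟩, subset_closure ?_, rfl⟩
        have h2 : (⟨r, hrX⟩ : ↥(X0 x)) ^ 2 = 1 := by
          apply Subtype.ext
          simp [pow_two, h.hel R.1 r hr]
        have h3 : (⟨r, hrX⟩ : ↥(X0 x)) ≠ 1 := fun e => hr1 (congrArg Subtype.val e)
        haveI : Fact (Nat.Prime 2) := ⟨Nat.prime_two⟩
        exact orderOf_eq_prime h2 h3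
    obtain ⟨b, hb, hba⟩ := hle a.2
    have : b = a := Subtype.ext hba
    rwa [← this]
  · refine ⟨⟨S.subtype (le_X0 S hS), S'.subtype (le_X0 S' hS'), fun e => hne ?_⟩⟩
    exact Sylow.subtype_injective e

end HelperX0

/-- [CD1] `Cls (X0 x)` if `x` fixes two Sylow subgroups. -/
theorem cls_X0 {x : Y} (hq : (orderOf x).Coprime (2 ^ n - 1)) {S S' : Sylow 2 Y} (hne : S ≠ S')
    (hS : x • S = S) (hS' : x • S' = S') : Cls ↥(X0 x) n := by
  classical
  have h0 := cls0_X0 h hq hne hS hS'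
  refine { h0 with hW := ?_ }
  intro T
  obtain ⟨R, hR, -, heq⟩ := exists_fixed_X0 h hq hS T
  obtain ⟨d, hd, hd'⟩ := CA.exists_moved h0 T
  have hRle : (R : Subgroup Y) ≤ X0 x := le_X0 R hR
  have hmemT : ∀ a : ↥(X0 x), a ∈ (T : Subgroup ↥(X0 x)) ↔ (a : Y) ∈ (R : Subgroup Y) := by
    intro a
    rw [← heq]
    constructor
    · intro ha
      exact ⟨a, ha, rfl⟩
    · rintro ⟨b, hb, hba⟩
      have : b = a := Subtype.ext hba
      rwa [← this]
  set A : Subgroup Y := (NN (T : Subgroup ↥(X0 x))).map (X0 x).subtype with hA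
  have hAW : A ≤ NN (R : Subgroup Y) := by
    rintro _ ⟨a, ha, rfl⟩
    refine Subgroup.mem_normalizer_iff.2 (fun r => ?_)
    have ha' := Subgroup.mem_normalizer_iff.1 ha
    constructor
    · intro hr
      have := (ha' ⟨r, hRle hr⟩).1 ((hmemT _).2 hr)
      exact (hmemT _).1 this
    · intro hr
      have hrX : r ∈ X0 x := by
        have h1 : (a : Y) * r * (a : Y)⁻¹ ∈ X0 x := hRle hr
        have h2 : r = (a : Y)⁻¹ * ((a : Y) * r * (a : Y)⁻¹) * a := by group
        rw [h2]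
        exact (X0 x).mul_mem ((X0 x).mul_mem ((X0 x).inv_mem a.2) h1) a.2
      have := (ha' ⟨r, hrX⟩).2 ((hmemT _).2 hr)
      exact (hmemT _).1 this
  have hinf : A ⊓ CC (R : Subgroup Y) = (CC (T : Subgroup ↥(X0 x))).map (X0 x).subtype := by
    ext y
    constructor
    · rintro ⟨⟨a, ha, rfl⟩, hy⟩
      refine ⟨a, ?_, rfl⟩
      have hy' : (a : Y) ∈ CC (R : Subgroup Y) := hy
      show a ∈ CC (T : Subgroup ↥(X0 x))
      rw [Subgroup.mem_centralizer_iff] at hy' ⊢
      intro t ht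
      exact Subtype.ext (hy' t.1 ((hmemT t).1 ht))
    · rintro ⟨a, ha, rfl⟩
      have ha' : a ∈ CC (T : Subgroup ↥(X0 x)) := ha
      refine ⟨⟨a, Subgroup.centralizer_le_normalizer _ ha', rfl⟩, ?_⟩
      show (a : Y) ∈ CC (R : Subgroup Y)
      rw [Subgroup.mem_centralizer_iff] at ha' ⊢
      intro r hr
      exact congrArg Subtype.val (ha' ⟨r, hRle hr⟩ ((hmemT _).2 hr))
  have hne' : ¬ A ≤ CC (R : Subgroup Y) := by
    intro hle
    apply hd'
    have h1 := hle ⟨d, hd, rfl⟩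
    rw [Subgroup.mem_centralizer_iff] at h1 ⊢
    intro t ht
    exact Subtype.ext (h1 t.1 ((hmemT t).1 ht))
  have hconj : ∀ w ∈ NN (R : Subgroup Y), ∀ c ∈ CC (R : Subgroup Y),
      w * c * w⁻¹ ∈ CC (R : Subgroup Y) := by
    intro w hw c hc
    rw [Subgroup.mem_centralizer_iff] at hc ⊢
    intro r hr
    have hw' := Subgroup.mem_normalizer_iff.1 hw
    have h1 : w⁻¹ * r * w ∈ (R : Subgroup Y) := by
      have := (hw' (w⁻¹ * r * w)).2 (by
        have e : w * (w⁻¹ * r * w) * w⁻¹ = r := by group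
        rw [e]; exact hr)
      exact this
    have h2 := hc _ h1
    calc r * (w * c * w⁻¹) = w * ((w⁻¹ * r * w) * c) * w⁻¹ := by group
      _ = w * (c * (w⁻¹ * r * w)) * w⁻¹ := by rw [h2]
      _ = w * c * w⁻¹ * r := by group
  have hmain := card_of_not_le_X0 h.hp (Subgroup.centralizer_le_normalizer _) hconj hAW (h.hW R) hne'
  have e1 : Nat.card A = Nat.card (NN (T : Subgroup ↥(X0 x))) :=
    Subgroup.card_map_of_injective (X0 x).subtype_injective
  have e2 : Nat.card (A ⊓ CC (R : Subgroup Y) : Subgroup Y) = Nat.card (CC (T : Subgroup ↥(X0 x))) := by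
    rw [hinf]
    exact Subgroup.card_map_of_injective (X0 x).subtype_injective
  rw [← e1, hmain, e2]

/-- [CD1] `X0 x ≠ ⊤` if `x` moves a Sylow subgroup. -/
theorem X0_ne_top {x : Y} (hq : (orderOf x).Coprime (2 ^ n - 1)) (hm : x ∉ KK Y) : X0 x ≠ ⊤ := by
  intro htop
  apply hm
  have hc : ∀ g : Y, g * x = x * g := by
    intro g
    have hg : g ∈ centralizer ({x} : Set Y) := X0_le_cent h (Or.inr trivial) hq (htop ▸ mem_top g)
    exact (Subgroup.mem_centralizer_iff.1 hg) x rfl |>.symm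
  refine Subgroup.mem_iInf.2 fun S => ?_
  rw [Subgroup.mem_normalizer_iff]
  intro y
  have e : x * y * x⁻¹ = y := by rw [← hc y, mul_inv_cancel_right]
  rw [e]

/-- [CD1] The Sylow subgroups of `X0 x` are the Sylow subgroups of `Y` fixed by `x`: if
`Nat.card (Sylow 2 (X0 x)) = 2^n + 1` then there are `2^n + 1` fixed ones. -/
theorem card_fix {x : Y} (hq : (orderOf x).Coprime (2 ^ n - 1)) {S S' : Sylow 2 Y} (hne : S ≠ S')
    (hS : x • S = S) (hS' : x • S' = S') :
    Nat.card {R : Sylow 2 Y // x • R = R} = Nat.card (Sylow 2 ↥(X0 x)) := by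
  classical
  refine Nat.card_congr (Equiv.ofBijective (fun R => R.1.subtype (le_X0 R.1 R.2)) ⟨?_, ?_⟩)
  · intro R R' e
    exact Subtype.ext (Sylow.subtype_injective e)
  · intro T
    obtain ⟨R, hR, hT, -⟩ := exists_fixed_X0 h hq hS T
    exact ⟨⟨R, hR⟩, hT.symm⟩

namespace Aux2

omit h in
/-- Two Sylow subgroups inside a subgroup `C` are conjugate under `C`. -/
lemma exists_conj_in {C : Subgroup Y} {A B : Sylow 2 Y} (hA : (A : Subgroup Y) ≤ C)
    (hB : (B : Subgroup Y) ≤ C) : ∃ c ∈ C, c • A = B := by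
  obtain ⟨c, hc⟩ := MulAction.exists_smul_eq C (A.subtype hA) (B.subtype hB)
  simp_rw [Sylow.smul_subtype, Subgroup.smul_def] at hc
  exact ⟨c, c.2, Sylow.subtype_injective hc⟩

omit h in
/-- An element of a `q`-group has `q`-power order. -/
lemma orderOf_eq_pow {q : ℕ} [Fact q.Prime] (P : Sylow q Y) {p : Y} (hp : p ∈ (P : Subgroup Y)) :
    ∃ j : ℕ, orderOf p = q ^ j := by
  obtain ⟨k, hk⟩ := (P.isPGroup' ⟨p, hp⟩)
  have h1 : orderOf p ∣ q ^ k := by
    apply orderOf_dvd_of_pow_eq_one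
    have := congrArg Subtype.val hk
    simpa using this
  obtain ⟨j, _, hj⟩ := (Nat.dvd_prime_pow Fact.out).1 h1
  exact ⟨j, hj⟩

/-- An involution in `S`. -/
lemma exists_invol (S : Sylow 2 Y) : ∃ t ∈ (S : Subgroup Y), orderOf t = 2 := by
  have hc : Nat.card S = 2 ^ n := h.hcard S
  have h2 : 2 ∣ Nat.card S := by
    rw [hc]
    exact dvd_pow_self 2 (by have := h.hn; omega)
  haveI : Fact (Nat.Prime 2) := ⟨Nat.prime_two⟩
  obtain ⟨t, ht⟩ := exists_prime_orderOf_dvd_card' 2 h2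
  exact ⟨t, t.2, (Subgroup.orderOf_coe t).trans ht⟩

/-- An element of `S` other than `1` is an involution. -/
lemma order_two {S : Sylow 2 Y} {t : Y} (ht : t ∈ (S : Subgroup Y)) (h1 : t ≠ 1) : orderOf t = 2 :=
  orderOf_eq_prime (by rw [sq]; exact h.hel S t ht) h1

/-- A nontrivial `q`-element in `C(S)` forces `q ≠ r`. -/
lemma prime_ne_r {q : ℕ} [Fact q.Prime] {x : Y} (hx1 : x ≠ 1) (hxq : IsPGroup q (zpowers x))
    {S : Sylow 2 Y} (hxS : x ∈ CC (S : Subgroup Y)) : q ≠ 2 ^ n - 1 := by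
  intro hq
  obtain ⟨k, hk⟩ := IsPGroup.iff_card.1 hxq
  rw [Nat.card_zpowers] at hk
  have hk0 : k ≠ 0 := by
    rintro rfl
    rw [pow_zero] at hk
    exact hx1 (orderOf_eq_one_iff.1 hk)
  obtain ⟨j, rfl⟩ := Nat.exists_eq_succ_of_ne_zero hk0
  have hqp : q.Prime := Fact.out
  have hd : q ^ j ∣ orderOf x := by
    rw [hk]
    exact pow_dvd_pow q (Nat.le_succ j)
  have hord : orderOf (x ^ q ^ j) = q := by
    rw [orderOf_pow_of_dvd (pow_ne_zero j hqp.ne_zero) hd, hk, pow_succ,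
      Nat.mul_div_cancel_left _ (pow_pos hqp.pos j)]
  obtain ⟨t, htS, ht⟩ := exists_invol h S
  have hc : t * x = x * t := (Subgroup.mem_centralizer_iff.1 hxS) t htS
  refine no_r_comm h (x := x ^ q ^ j) (t := t) (by rw [hord, hq]) ht ?_
  exact ((Commute.pow_right hc _)).eq

/-- If `x` fixes a Sylow subgroup and a `q`-element `p` commutes with `x`... : the regular action. -/
lemma fix_pointwise {q : ℕ} [Fact q.Prime] (hq2 : q ≠ 2) {x : Y} {R₀ R : Sylow 2 Y}
    (hcard : Nat.card {R : Sylow 2 Y // x • R = R} = 2 ^ n + 1)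
    (hR₀ : x • R₀ = R₀) (hxR₀ : x ∈ CC (R₀ : Subgroup Y)) (hR : x • R = R) (hne : R ≠ R₀)
    {p : Y} (hpx : p * x = x * p) (hp0 : p • R₀ = R₀) (hpC : p ∈ CC (R₀ : Subgroup Y))
    {j : ℕ} (hj : orderOf p = q ^ j) : p • R = R := by
  classical
  have hq : q.Prime := Fact.out
  have hodd : Odd (orderOf p) := by
    rw [hj]
    exact (hq.odd_of_ne_two hq2).pow
  -- `t ∈ R₀` commutes with `x`
  have htx : ∀ t ∈ (R₀ : Subgroup Y), t * x = x * t := fun t ht =>
    (Subgroup.mem_centralizer_iff.1 hxR₀) t ht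
  have hfree : ∀ t ∈ (R₀ : Subgroup Y), t • R = R → t = 1 := by
    intro t ht hf
    by_contra h1
    have h2 := order_two h ht h1
    have h3 := (CA.smul_eq_iff h.toCls0 h2 ht R).1 hf
    exact hne h3
  have hmem : ∀ t ∈ (R₀ : Subgroup Y), x • (t • R) = t • R := by
    intro t ht
    rw [smul_smul, ← htx t ht, mul_smul, hR]
  let ψ : Option (R₀ : Subgroup Y) → {R : Sylow 2 Y // x • R = R} := fun o =>
    match o with
    | none => ⟨R₀, hR₀⟩
    | some t => ⟨(t : Y) • R, hmem t t.2⟩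
  have hψ : Function.Injective ψ := by
    intro a b hab
    rcases a with _ | a <;> rcases b with _ | b
    · rfl
    · exfalso
      have h1 : R₀ = (b : Y) • R := congrArg Subtype.val hab
      have h2 : (b : Y) • R₀ = R₀ := by
        have := (Sylow.smul_eq_iff_mem_normalizer (g := (b : Y)) (P := R₀)).2
          (Subgroup.le_normalizer b.2)
        exact this
      apply hne
      have h3 : (b : Y) • R = (b : Y) • R₀ := by rw [← h1, h2]
      exact smul_left_cancel _ h3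
    · exfalso
      have h1 : (a : Y) • R = R₀ := congrArg Subtype.val hab
      have h2 : (a : Y) • R₀ = R₀ := by
        have := (Sylow.smul_eq_iff_mem_normalizer (g := (a : Y)) (P := R₀)).2
          (Subgroup.le_normalizer a.2)
        exact this
      apply hne
      have h3 : (a : Y) • R = (a : Y) • R₀ := by rw [h1, h2]
      exact smul_left_cancel _ h3
    · have h1 : (a : Y) • R = (b : Y) • R := congrArg Subtype.val hab
      have h2 : ((a : Y)⁻¹ * b) • R = R := by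
        rw [mul_smul, ← h1, inv_smul_smul]
      have h3 := hfree _ (mul_mem (inv_mem a.2) b.2) h2
      have h4 : (a : Y) = b := by
        rw [inv_mul_eq_one] at h3
        exact h3
      rw [Subtype.ext h4]
  have hbij : Function.Bijective ψ := by
    refine hψ.bijective_of_nat_card_le ?_
    rw [hcard, Finite.card_option]
    have : Nat.card (R₀ : Subgroup Y) = 2 ^ n := h.hcard R₀
    rw [this]
  have hpR : x • (p • R) = p • R := by
    rw [smul_smul, ← hpx, mul_smul, hR]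
  obtain ⟨o, ho⟩ := hbij.2 ⟨p • R, hpR⟩
  rcases o with _ | t
  · exfalso
    have h1 : R₀ = p • R := congrArg Subtype.val ho
    apply hne
    have h3 : p • R = p • R₀ := by rw [← h1, hp0]
    exact smul_left_cancel _ h3
  · have h1 : (t : Y) • R = p • R := congrArg Subtype.val ho
    have hc : Commute (t : Y)⁻¹ p :=
      ((Subgroup.mem_centralizer_iff.1 hpC) _ (inv_mem t.2) : _)
    have h2 : ((t : Y)⁻¹ * p) • R = R := by
      rw [mul_smul, ← h1, inv_smul_smul]
    have h3 : (((t : Y)⁻¹ * p) ^ orderOf p) • R = R := by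
      have : ∀ k : ℕ, (((t : Y)⁻¹ * p) ^ k) • R = R := by
        intro k
        induction k with
        | zero => simp
        | succ k ih => rw [pow_succ, mul_smul, h2, ih]
      exact this _
    rw [hc.mul_pow, pow_orderOf_eq_one, mul_one] at h3
    have hmem2 : (t : Y)⁻¹ ^ orderOf p ∈ (R₀ : Subgroup Y) := pow_mem (inv_mem t.2) _
    have h4 := hfree _ hmem2 h3
    have ht2 : (t : Y)⁻¹ * (t : Y)⁻¹ = 1 := h.hel R₀ _ (inv_mem t.2)
    obtain ⟨m, hm⟩ := hodd
    have ht3 : (t : Y)⁻¹ ^ orderOf p = (t : Y)⁻¹ := by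
      rw [hm, pow_succ, pow_mul, sq, ht2, one_pow, one_mul]
    rw [ht3] at h4
    have h5 : (t : Y) = 1 := inv_eq_one.1 h4
    rw [h5, one_smul] at h1
    exact h1.symm

end Aux2

/-- [CD2] Suppose `x ∈ C(S)`, `x` a `q`-element, `q` odd, `x ≠ 1`, `x` fixes exactly `2^n + 1` Sylow subgroups
(including `S, S'`) and `q ∤ 2^n + 1`. Then every Sylow `q`-subgroup `P` containing `x` is contained in `D0 S S'`. (`P` abelian acts on
the fixed set, has a fixed point `R`, `P ≤ C(R)` as `q ≠ r`, `R` is regular on the others: `P` fixes all.) -/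
theorem sylow_le_D0 {q : ℕ} [Fact q.Prime] (hq2 : q ≠ 2) {x : Y} (hx1 : x ≠ 1) (hxq : IsPGroup q (zpowers x))
    {S S' : Sylow 2 Y} (hne : S ≠ S') (hS : x • S = S) (hS' : x • S' = S')
    (hcard : Nat.card {R : Sylow 2 Y // x • R = R} = 2 ^ n + 1) (hqd : ¬ q ∣ 2 ^ n + 1)
    (hxS : x ∈ CC (S : Subgroup Y)) (P : Sylow q Y) (hxP : x ∈ (P : Subgroup Y)) :
    (P : Subgroup Y) ≤ D0 S S' := by
  classical
  have hq : q.Prime := Fact.out
  have hqr := Aux2.prime_ne_r h hx1 hxq hxS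
  have hr : (2 ^ n - 1).Prime := h.hp
  have hcomm : ∀ p ∈ (P : Subgroup Y), p * x = x * p := fun p hp => h.hab q P p hp x hxP
  let Fx : SubMulAction (P : Subgroup Y) (Sylow 2 Y) :=
    { carrier := {R | x • R = R}
      smul_mem' := by
        intro p R hR
        have hR' : x • R = R := hR
        show x • (p • R) = p • R
        rw [Subgroup.smul_def, smul_smul, ← hcomm p p.2, mul_smul, hR'] }
  have hcard' : Nat.card Fx = 2 ^ n + 1 := hcard
  obtain ⟨⟨R₀, hR₀⟩, hfix⟩ := (P.isPGroup').nonempty_fixed_point_of_prime_not_dvd_card Fx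
    (by rw [hcard']; exact hqd)
  have hR₀' : x • R₀ = R₀ := hR₀
  have hp0 : ∀ p ∈ (P : Subgroup Y), p • R₀ = R₀ := by
    intro p hp
    have := hfix ⟨p, hp⟩
    exact congrArg Subtype.val this
  have hcop : ∀ p ∈ (P : Subgroup Y), (orderOf p).Coprime (2 ^ n - 1) := by
    intro p hp
    obtain ⟨j, hj⟩ := Aux2.orderOf_eq_pow P hp
    rw [hj]
    exact Nat.Coprime.pow_left _ ((Nat.coprime_primes hq hr).2 hqr)
  have hpC : ∀ p ∈ (P : Subgroup Y), p ∈ CC (R₀ : Subgroup Y) := fun p hp =>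
    mem_CC_of_coprime h ((mem_NN).2 (hp0 p hp)) (hcop p hp)
  have hall : ∀ R : Sylow 2 Y, x • R = R → ∀ p ∈ (P : Subgroup Y), p • R = R := by
    intro R hR p hp
    by_cases hRR : R = R₀
    · rw [hRR]
      exact hp0 p hp
    · obtain ⟨j, hj⟩ := Aux2.orderOf_eq_pow P hp
      exact Aux2.fix_pointwise h hq2 hcard hR₀' (hpC x hxP) hR hRR (hcomm p hp) (hp0 p hp) (hpC p hp) hj
  intro p hp
  have h1 := hall S hS p hp
  have h2 := hall S' hS' p hp
  refine Subgroup.mem_inf.2 ⟨mem_DD.2 ⟨h1, h2⟩, ?_⟩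
  exact mem_CC_of_coprime h ((mem_NN).2 h1) (hcop p hp)

namespace Aux2

/-- `N(S) = C(S) ⟨x₀⟩`. -/
lemma norm_dec {S S' : Sylow 2 Y} (hne : S ≠ S') {x₀ : Y}
    (hx₀ : ∀ y ∈ DD S S', ∃ d ∈ D0 S S', ∃ k : ℕ, y = d * x₀ ^ k) {g : Y}
    (hg : g ∈ NN (S : Subgroup Y)) : ∃ c ∈ CC (S : Subgroup Y), ∃ k : ℕ, g = c * x₀ ^ k := by
  have hgS : g • S = S := mem_NN.1 hg
  have hgS' : g • S' ≠ S := by
    intro he
    apply hne
    have h3 : g • S = g • S' := by rw [he, hgS]
    exact smul_left_cancel _ h3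
  obtain ⟨c, hc, hcS⟩ := cent_trans h S (S₁ := S') (S₂ := g • S') hne.symm hgS'
  have hy : c⁻¹ * g ∈ DD S S' := by
    refine mem_DD.2 ⟨?_, ?_⟩
    · have hcN : c • S = S := mem_NN.1 (Subgroup.centralizer_le_normalizer _ hc)
      rw [mul_smul, hgS, inv_smul_eq_iff, hcN]
    · rw [mul_smul, ← hcS, inv_smul_smul]
  obtain ⟨d, hd, k, he⟩ := hx₀ _ hy
  refine ⟨c * d, mul_mem hc (Subgroup.mem_inf.1 hd).2, k, ?_⟩
  rw [mul_assoc, ← he, mul_inv_cancel_left]

end Aux2

/-- [CD3] The automizer: if `P ≤ D0 S S'` is Sylow, and `n₀` normalizes `P`, then there is `d ∈ D0 S S'` normalizing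
`P` inducing the same action. (Sylow in `C(P)`; `N(S) = C(S)⟨x₀⟩`; coset `m C_M(P)` has a fixed point under `⟨x₀⟩`,
`x₀` of order `r`, by `not_dvd_CC`; `fix_two`.) -/
theorem automizer {q : ℕ} [Fact q.Prime] (hq2 : q ≠ 2) {S S' : Sylow 2 Y} (hne : S ≠ S')
    (P : Sylow q Y) (hP : (P : Subgroup Y) ≤ D0 S S') {n₀ : Y} (hn : n₀ ∈ NN (P : Subgroup Y)) :
    ∃ d ∈ D0 S S', ∀ a ∈ (P : Subgroup Y), d * a * d⁻¹ = n₀ * a * n₀⁻¹ := by
  classical
  have hr : (2 ^ n - 1).Prime := h.hp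
  haveI : Fact (2 ^ n - 1).Prime := ⟨hr⟩
  have hnP : ∀ a, a ∈ (P : Subgroup Y) ↔ n₀ * a * n₀⁻¹ ∈ (P : Subgroup Y) :=
    Subgroup.mem_normalizer_iff.1 hn
  -- `S ≤ C(P)` and `n₀ • S ≤ C(P)`
  have hPS : ∀ a ∈ (P : Subgroup Y), ∀ s ∈ (S : Subgroup Y), s * a = a * s := fun a ha s hs =>
    (Subgroup.mem_centralizer_iff.1 (Subgroup.mem_inf.1 (hP ha)).2) s hs
  set C : Subgroup Y := centralizer (P : Set Y) with hC
  have hSC : (S : Subgroup Y) ≤ C := by
    intro s hs
    refine Subgroup.mem_centralizer_iff.2 ?_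
    intro a ha
    exact (hPS a ha s hs).symm
  have hSC' : ((n₀ • S : Sylow 2 Y) : Subgroup Y) ≤ C := by
    intro s hs
    refine Subgroup.mem_centralizer_iff.2 ?_
    intro a ha
    have hs' : n₀⁻¹ * s * n₀ ∈ (S : Subgroup Y) := by
      have h1 : s ∈ ((n₀ • S : Sylow 2 Y) : Set Y) := hs
      rw [Sylow.coe_smul] at h1
      obtain ⟨s₀, hs₀, rfl⟩ := h1
      have e : n₀⁻¹ * (MulAut.conj n₀ • s₀) * n₀ = s₀ := by
        simp [MulAut.smul_def, mul_assoc]
      rw [e]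
      exact hs₀
    have ha' : n₀⁻¹ * a * n₀ ∈ (P : Subgroup Y) := by
      rw [hnP]
      have e : n₀ * (n₀⁻¹ * a * n₀) * n₀⁻¹ = a := by group
      rw [e]
      exact ha
    have h2 := hPS _ ha' _ hs'
    have h3 : n₀ * (n₀⁻¹ * s * n₀ * (n₀⁻¹ * a * n₀)) * n₀⁻¹ = n₀ * (n₀⁻¹ * a * n₀ * (n₀⁻¹ * s * n₀)) * n₀⁻¹ := by
      rw [h2]
    have e1 : n₀ * (n₀⁻¹ * s * n₀ * (n₀⁻¹ * a * n₀)) * n₀⁻¹ = s * a := by group
    have e2 : n₀ * (n₀⁻¹ * a * n₀ * (n₀⁻¹ * s * n₀)) * n₀⁻¹ = a * s := by group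
    rw [e1, e2] at h3
    exact h3.symm
  obtain ⟨c, hcC, hc⟩ := Aux2.exists_conj_in hSC hSC'
  -- `m₀ = c⁻¹ n₀`
  have hcz : ∀ a ∈ (P : Subgroup Y), c * a * c⁻¹ = a := by
    intro a ha
    have := (Subgroup.mem_centralizer_iff.1 hcC) a ha
    rw [← this]
    group
  set m₀ := c⁻¹ * n₀ with hm₀
  have hm₀a : ∀ a ∈ (P : Subgroup Y), m₀ * a * m₀⁻¹ = n₀ * a * n₀⁻¹ := by
    intro a ha
    have h1 := (hnP a).1 ha
    have h2 := hcz _ h1
    have e : m₀ * a * m₀⁻¹ = c⁻¹ * (n₀ * a * n₀⁻¹) * c := by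
      rw [hm₀]
      group
    rw [e]
    have h3 : c * (n₀ * a * n₀⁻¹) = (n₀ * a * n₀⁻¹) * c := by
      exact mul_inv_eq_iff_eq_mul.1 h2
    rw [mul_assoc, ← h3, inv_mul_cancel_left]
  have hm₀S : m₀ ∈ NN (S : Subgroup Y) := by
    refine mem_NN.2 ?_
    rw [hm₀, mul_smul, ← hc, inv_smul_smul]
  -- `x₀`
  obtain ⟨x₀, hx₀D, hx₀r, -, hx₀c, hx₀y, -, -, -⟩ := exists_pi h hne
  have hx₀z : ∀ a ∈ (P : Subgroup Y), a * x₀ = x₀ * a := fun a ha => hx₀c a (hP ha)
  obtain ⟨m, hmC, k, hmk⟩ := Aux2.norm_dec h hne hx₀y hm₀S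
  have hxk : ∀ a ∈ (P : Subgroup Y), x₀ ^ k * a = a * x₀ ^ k := fun a ha =>
    (Commute.pow_left (hx₀z a ha).symm k).eq
  have hma : ∀ a ∈ (P : Subgroup Y), m * a * m⁻¹ = n₀ * a * n₀⁻¹ := by
    intro a ha
    rw [← hm₀a a ha, hmk]
    have e : m * x₀ ^ k * a * (m * x₀ ^ k)⁻¹ = m * (x₀ ^ k * a) * (x₀ ^ k)⁻¹ * m⁻¹ := by group
    rw [e, hxk a ha]
    group
  -- the coset
  let Cos : Set Y := {y | y ∈ CC (S : Subgroup Y) ∧ ∀ a ∈ (P : Subgroup Y), y * a * y⁻¹ = n₀ * a * n₀⁻¹}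
  have hx₀N : ∀ z ∈ zpowers x₀, z • S = S := by
    intro z hz
    have h1 : x₀ ∈ NN (S : Subgroup Y) := mem_NN.2 (mem_DD.1 hx₀D).1
    exact mem_NN.1 ((Subgroup.zpowers_le.2 h1) hz)
  have hx₀C : ∀ z ∈ zpowers x₀, ∀ a ∈ (P : Subgroup Y), z * a = a * z := by
    intro z hz a ha
    obtain ⟨i, rfl⟩ := Subgroup.mem_zpowers_iff.1 hz
    exact (Commute.zpow_left (hx₀z a ha).symm i).eq
  have hCosClosed : ∀ z ∈ zpowers x₀, ∀ y ∈ Cos, z * y * z⁻¹ ∈ Cos := by
    intro z hz y hy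
    refine ⟨?_, ?_⟩
    · refine Subgroup.mem_centralizer_iff.2 ?_
      intro s hs
      have hzS : z⁻¹ * s * z ∈ (S : Subgroup Y) := by
        have h1 : z⁻¹ ∈ NN (S : Subgroup Y) := inv_mem (mem_NN.2 (hx₀N z hz))
        have := (Subgroup.mem_normalizer_iff.1 h1 s).1 hs
        simpa using this
      have h2 := (Subgroup.mem_centralizer_iff.1 hy.1) _ hzS
      have e1 : s * (z * y * z⁻¹) = z * ((z⁻¹ * s * z) * y) * z⁻¹ := by group
      have e2 : z * y * z⁻¹ * s = z * (y * (z⁻¹ * s * z)) * z⁻¹ := by group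
      rw [e1, e2, h2]
    · intro a ha
      have h1 := hy.2 a ha
      have h2 := hx₀C z hz a ha
      have h3 : z⁻¹ * a * z = a := by
        rw [mul_assoc, ← h2, inv_mul_cancel_left]
      have h4 : n₀ * a * n₀⁻¹ ∈ (P : Subgroup Y) := (hnP a).1 ha
      have h5 := hx₀C z hz _ h4
      have e : z * y * z⁻¹ * a * (z * y * z⁻¹)⁻¹ = z * (y * (z⁻¹ * a * z) * y⁻¹) * z⁻¹ := by group
      rw [e, h3, h1, h5, mul_inv_cancel_right]
  letI act : MulAction (zpowers x₀) Cos :=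
    { smul := fun z y => ⟨(z : Y) * y.1 * (z : Y)⁻¹, hCosClosed z z.2 y.1 y.2⟩
      one_smul := by
        intro y
        apply Subtype.ext
        show ((1 : zpowers x₀) : Y) * y.1 * ((1 : zpowers x₀) : Y)⁻¹ = y.1
        simp
      mul_smul := by
        intro z w y
        apply Subtype.ext
        show ((z * w : zpowers x₀) : Y) * y.1 * ((z * w : zpowers x₀) : Y)⁻¹ =
          (z : Y) * ((w : Y) * y.1 * (w : Y)⁻¹) * (z : Y)⁻¹
        push_cast
        group }
  have hxp : IsPGroup (2 ^ n - 1) (zpowers x₀) := by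
    refine IsPGroup.iff_card.2 ⟨1, ?_⟩
    rw [Nat.card_zpowers, hx₀r, pow_one]
  -- the size of the coset
  have hmCos : m ∈ Cos := ⟨hmC, hma⟩
  let M' : Subgroup Y := CC (S : Subgroup Y) ⊓ C
  let e : M' ≃ Cos :=
    { toFun := fun z => ⟨m * z.1, by
        refine ⟨mul_mem hmC (Subgroup.mem_inf.1 z.2).1, ?_⟩
        intro a ha
        have h1 := (Subgroup.mem_centralizer_iff.1 (Subgroup.mem_inf.1 z.2).2) a ha
        have e : m * z.1 * a * (m * z.1)⁻¹ = m * (z.1 * a) * z.1⁻¹ * m⁻¹ := by group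
        rw [e, ← h1, ← hma a ha]
        group⟩
      invFun := fun y => ⟨m⁻¹ * y.1, by
        refine Subgroup.mem_inf.2 ⟨mul_mem (inv_mem hmC) y.2.1, ?_⟩
        refine Subgroup.mem_centralizer_iff.2 ?_
        intro a ha
        have h1 := y.2.2 a ha
        have h2 := hma a ha
        rw [← h2] at h1
        have h3 : m⁻¹ * (y.1 * a * y.1⁻¹) * m = a := by
          rw [h1]
          group
        have e1 : a * (m⁻¹ * y.1) = m⁻¹ * (y.1 * a * y.1⁻¹) * m * (m⁻¹ * y.1) := by rw [h3]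
        rw [e1]
        group⟩
      left_inv := by
        intro z
        apply Subtype.ext
        show m⁻¹ * (m * z.1) = z.1
        group
      right_inv := by
        intro y
        apply Subtype.ext
        show m * (m⁻¹ * y.1) = y.1
        group }
  have hcardC : ¬ (2 ^ n - 1) ∣ Nat.card Cos := by
    rw [← Nat.card_congr e]
    intro hd
    apply not_dvd_CC h S
    have h1 : Nat.card M' ∣ Nat.card (CC (S : Subgroup Y)) :=
      Subgroup.card_dvd_of_le (inf_le_left : M' ≤ CC (S : Subgroup Y))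
    exact hd.trans h1
  obtain ⟨⟨m', hm'⟩, hfix⟩ := hxp.nonempty_fixed_point_of_prime_not_dvd_card Cos hcardC
  have hcomm : x₀ * m' * x₀⁻¹ = m' := by
    have := hfix ⟨x₀, Subgroup.mem_zpowers x₀⟩
    exact congrArg Subtype.val this
  have hcomm' : x₀ * m' = m' * x₀ := mul_inv_eq_iff_eq_mul.1 hcomm
  have hm'N : m' • S = S := mem_NN.1 (Subgroup.centralizer_le_normalizer _ hm'.1)
  have hfx : x₀ • (m' • S') = m' • S' := by
    rw [smul_smul, hcomm', mul_smul, (mem_DD.1 hx₀D).2]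
  have hS' : m' • S' = S' := by
    rcases fix_two h hne hx₀D hx₀r hfx with h1 | h1
    · exfalso
      apply hne
      have h3 : m' • S = m' • S' := by rw [h1, hm'N]
      exact smul_left_cancel _ h3
    · exact h1
  refine ⟨m', Subgroup.mem_inf.2 ⟨mem_DD.2 ⟨hm'N, hS'⟩, hm'.1⟩, hm'.2⟩

/-- [CD3] The contradiction. `ρ` restricted to `P` extends to `Y` (`Transfer.Focal.exists_extension`, Burnside fusion
`KleinSylow.exists_normalizer_conj`); the extension is trivial on the involutions, so trivial by `hgen`. -/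
theorem no_rho {q : ℕ} [Fact q.Prime] (hq2 : q ≠ 2) {S S' : Sylow 2 Y} (hne : S ≠ S')
    (P : Sylow q Y) (hP : (P : Subgroup Y) ≤ D0 S S') {B : Type} [CommGroup B] [Finite B]
    (hB : IsPGroup q B) (ρ : D0 S S' →* B) {a : Y} (ha : a ∈ (P : Subgroup Y)) (ha' : a ∈ D0 S S')
    (hρ : ρ ⟨a, ha'⟩ ≠ 1) : False := by
  classical
  have hPab : ∀ x ∈ (P : Subgroup Y), ∀ y ∈ (P : Subgroup Y), x * y = y * x := h.hab q P
  -- `ρ` restricted to `P`
  let ϕ : (P : Subgroup Y) →* B := ρ.comp (Subgroup.inclusion hP)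
  have hϕ : ∀ (x y : (P : Subgroup Y)) (g : Y), (y : Y) = g * x * g⁻¹ → ϕ y = ϕ x := by
    intro x y g hg
    obtain ⟨n₀, hn₀, hn₀x⟩ := Cfsg.Agent.Lib.Involutions2.KleinSylow.exists_normalizer_conj P hPab
      x.2 y.2 hg.symm
    obtain ⟨d, hd, hda⟩ := automizer h hq2 hne P hP hn₀
    have h1 : d * (x : Y) * d⁻¹ = y := (hda x x.2).trans hn₀x
    have h2 : Subgroup.inclusion hP y = (⟨d, hd⟩ : D0 S S') * Subgroup.inclusion hP x * (⟨d, hd⟩ : D0 S S')⁻¹ :=
      Subtype.ext h1.symm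
    change ρ (Subgroup.inclusion hP y) = ρ (Subgroup.inclusion hP x)
    rw [h2, map_mul, map_mul, map_inv, mul_comm (ρ ⟨d, hd⟩), mul_assoc, mul_inv_cancel, mul_one]
  haveI : (P : Subgroup Y).FiniteIndex := inferInstance
  have hco : Nat.Coprime (Nat.card B) (P : Subgroup Y).index := by
    obtain ⟨k, hk⟩ := IsPGroup.iff_card.mp hB
    rw [hk]
    exact Nat.Coprime.pow_left k ((Nat.Prime.coprime_iff_not_dvd Fact.out).mpr P.not_dvd_index)
  obtain ⟨f, hf⟩ := Cfsg.Agent.Lib.Transfer.Focal.exists_extension hco ϕ hϕ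
  have hinv : ∀ t : Y, orderOf t = 2 → f t = 1 := by
    intro t ht
    obtain ⟨k, hk⟩ := hB (f t)
    have h1 : f t ^ 2 = 1 := by
      rw [← map_pow, ← ht, pow_orderOf_eq_one, map_one]
    have h2 : orderOf (f t) ∣ 2 := orderOf_dvd_of_pow_eq_one h1
    have h3 : orderOf (f t) ∣ q ^ k := orderOf_dvd_of_pow_eq_one hk
    have hc : Nat.Coprime 2 (q ^ k) :=
      Nat.Coprime.pow_right k ((Nat.coprime_primes Nat.prime_two Fact.out).mpr (Ne.symm hq2))
    exact orderOf_eq_one_iff.mp (Nat.Coprime.eq_one_of_dvd (Nat.Coprime.coprime_dvd_left h2 hc) h3)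
  have hfa : f a = 1 := by
    have hle : closure {t : Y | orderOf t = 2} ≤ f.ker := by
      rw [closure_le]
      intro t ht
      exact hinv t ht
    rw [h.hgen] at hle
    exact hle (Subgroup.mem_top a)
  apply hρ
  have h5 := hf ⟨a, ha⟩
  rw [hfa] at h5
  exact h5.symm

omit h in
lemma step_aux_pelem {q : ℕ} [hq : Fact q.Prime] {A : Type*} [Group A] [Finite A] {B : Type*} [Group B]
    (hB : IsPGroup q B) (ρ : A →* B) {d : A} (hd : ρ d ≠ 1) :
    ∃ x : A, ρ x ≠ 1 ∧ IsPGroup q (zpowers x) ∧ x ∈ zpowers d := by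
  -- the `q`-part of `d`
  obtain ⟨k, m, hqm, hord⟩ : ∃ k m : ℕ, ¬ q ∣ m ∧ orderOf d = q ^ k * m := by
    refine ⟨(orderOf d).factorization q, ordCompl[q] (orderOf d), ?_, ?_⟩
    · exact Nat.not_dvd_ordCompl hq.out (orderOf_pos d).ne'
    · exact (Nat.ordProj_mul_ordCompl_eq_self _ _).symm
  have hcop : Nat.Coprime (q ^ k) m := Nat.Coprime.pow_left _ ((Nat.Prime.coprime_iff_not_dvd hq.out).mpr hqm)
  -- `x := d ^ m` has `q`-power order
  refine ⟨d ^ m, ?_, ?_, npow_mem_zpowers d m⟩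
  · intro h1
    apply hd
    rw [map_pow] at h1
    obtain ⟨l, hl⟩ := hB (ρ d)
    have h2 : orderOf (ρ d) ∣ m := orderOf_dvd_of_pow_eq_one h1
    have h3 : orderOf (ρ d) ∣ q ^ l := orderOf_dvd_of_pow_eq_one hl
    have h4 : Nat.Coprime (q ^ l) m := Nat.Coprime.pow_left _ ((Nat.Prime.coprime_iff_not_dvd hq.out).mpr hqm)
    have h5 : orderOf (ρ d) = 1 := Nat.eq_one_of_dvd_coprimes h4 h3 h2
    exact orderOf_eq_one_iff.mp h5
  · rw [IsPGroup.iff_card]
    refine ⟨k, ?_⟩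
    rw [Nat.card_zpowers]
    have hm0 : 0 < m := by
      apply Nat.pos_of_ne_zero
      rintro rfl
      rw [mul_zero] at hord
      exact (orderOf_pos d).ne' hord
    rw [orderOf_pow' d hm0.ne', hord, Nat.gcd_eq_right (Nat.dvd_mul_left _ _), Nat.mul_div_cancel _ hm0]

/-- [CD4] The step. -/
theorem step (IH : ∀ X : Subgroup Y, X ≠ ⊤ → Cls ↥X n → Concl ↥X n) {S S' : Sylow 2 Y} (hne : S ≠ S') :
    D0 S S' ≤ KK Y := by
  classical
  by_contra hnot
  have hK : KK Y ≤ D0 S S' := KK_le_D0 h S S'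
  have hnK : ((KK Y).subgroupOf (D0 S S')).Normal := by
    haveI : (KK Y).Normal := KK_normal_aux
    exact Subgroup.Normal.subgroupOf inferInstance _
  have hodd : Odd (Nat.card (D0 S S')) :=
    Odd.of_dvd_nat (odd_DD h hne) (Subgroup.card_dvd_of_le (inf_le_left : D0 S S' ≤ DD S S'))
  obtain ⟨q, hq, B, _, _, hB, hpB, ρ, hρs, hρK⟩ := exists_rho h hK hnK hodd hnot
  haveI : Fact q.Prime := ⟨hq⟩
  obtain ⟨b, hb⟩ := exists_ne (1 : B)
  obtain ⟨d, hd⟩ := hρs b
  obtain ⟨x', hx'ρ, hx'p, -⟩ := step_aux_pelem hpB ρ (d := d) (by rw [hd]; exact hb)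
  have hxD : (x' : Y) ∈ DD S S' := (x'.2 : (x' : Y) ∈ D0 S S').1
  have hxS : (x' : Y) ∈ CC (S : Subgroup Y) := (x'.2 : (x' : Y) ∈ D0 S S').2
  obtain ⟨hS, hS'⟩ := mem_DD.mp hxD
  have hord : orderOf (x' : Y) = orderOf x' := Subgroup.orderOf_coe x'
  have hx'1 : x' ≠ 1 := by
    rintro rfl
    exact hx'ρ (map_one ρ)
  have hx1 : (x' : Y) ≠ 1 := fun e => hx'1 (Subtype.ext e)
  obtain ⟨k, hk⟩ : ∃ k, orderOf x' = q ^ k := by
    obtain ⟨k, hk⟩ := (IsPGroup.iff_card.mp hx'p)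
    rw [Nat.card_zpowers] at hk
    exact ⟨k, hk⟩
  have hk0 : k ≠ 0 := by
    rintro rfl
    rw [pow_zero] at hk
    exact hx'1 (orderOf_eq_one_iff.mp hk)
  have hqd0 : q ∣ orderOf x' := by
    rw [hk]
    exact dvd_pow_self _ hk0
  have hq2 : q ≠ 2 := by
    rintro rfl
    have h1 : 2 ∣ Nat.card (D0 S S') := hqd0.trans (orderOf_dvd_natCard x')
    exact (Nat.not_even_iff_odd.mpr hodd) (even_iff_two_dvd.mpr h1)
  have hxpY : IsPGroup q (zpowers (x' : Y)) := by
    rw [IsPGroup.iff_card]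
    exact ⟨k, by rw [Nat.card_zpowers, hord, hk]⟩
  -- an element of order `q` commuting with an involution
  obtain ⟨t, ht, htS⟩ : ∃ t : Y, orderOf t = 2 ∧ t ∈ (S : Subgroup Y) := by
    rcases (S : Subgroup Y).bot_or_exists_ne_one with hb | ⟨t, htS, ht1⟩
    · have h1 := h.hcard S
      have h2 : Nat.card (S : Subgroup Y) = 1 := by rw [hb]; simp
      have h3 : 2 ^ 2 ≤ 2 ^ n := Nat.pow_le_pow_right (by norm_num) h.hn
      omega
    · haveI : Fact (Nat.Prime 2) := ⟨Nat.prime_two⟩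
      exact ⟨t, orderOf_eq_prime (by rw [sq]; exact h.hel S t htS) ht1, htS⟩
  have hxt : t * (x' : Y) = (x' : Y) * t := by
    exact (Subgroup.mem_centralizer_iff.mp hxS t htS)
  let z : Y := (x' : Y) ^ (q ^ (k - 1))
  have hzord : orderOf z = q := by
    have hk1 : q ^ k = q ^ (k - 1) * q := by
      rw [← pow_succ]
      congr 1
      omega
    have hpos : q ^ (k - 1) ≠ 0 := pow_ne_zero _ hq.ne_zero
    simp only [z]
    rw [orderOf_pow' _ hpos, hord, hk, hk1, Nat.gcd_eq_right (Nat.dvd_mul_right _ _),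
      Nat.mul_div_cancel_left _ (Nat.pos_of_ne_zero hpos)]
  have hzt : t * z = z * t := by
    simp only [z]
    exact ((Commute.pow_right (show Commute t (x' : Y) from hxt) _))
  have hqr : q ≠ 2 ^ n - 1 := by
    intro e
    exact no_r_comm h (hzord.trans e) ht hzt
  have hqc : (orderOf (x' : Y)).Coprime (2 ^ n - 1) := by
    rw [hord, hk]
    exact Nat.Coprime.pow_left _ ((Nat.coprime_primes hq h.hp).mpr hqr)
  have hm : (x' : Y) ∉ KK Y := fun e => hx'ρ (hρK x' e)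
  have hcls := cls_X0 h hqc hne hS hS'
  have hnt := X0_ne_top h hqc hm
  have hconcl := IH _ hnt hcls
  have hfix : Nat.card {R : Sylow 2 Y // (x' : Y) • R = R} = 2 ^ n + 1 :=
    (card_fix h hqc hne hS hS').trans hconcl.card_syl
  have hqd : ¬ q ∣ 2 ^ n + 1 := by
    intro hdvd
    obtain ⟨y, s, hy, hs, hsy⟩ := hconcl.inv q hq hq2 hdvd
    refine h.hcoinv q hq hq2 z (y : Y) t (s : Y) hzord ?_ ht ?_ hzt ?_
    · rw [Subgroup.orderOf_coe]; exact hy
    · rw [Subgroup.orderOf_coe]; exact hs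
    · have := congrArg Subtype.val hsy
      simpa using this
  obtain ⟨P, hP⟩ := IsPGroup.exists_le_sylow hxpY
  have hxP : (x' : Y) ∈ (P : Subgroup Y) := hP (mem_zpowers _)
  have hPD := sylow_le_D0 h hq2 hx1 hxpY hne hS hS' hfix hqd hxS P hxP
  exact no_rho h hq2 hne P hPD hpB ρ hxP x'.2 hx'ρ


omit h in
theorem core_aux (N : ℕ) : ∀ (Y : Type u) [Group Y] [Finite Y] (n : ℕ), Nat.card Y = N → Cls Y n → Concl Y n := by
  induction N using Nat.strong_induction_on with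
  | _ N ih =>
    intro Y _ _ n hc h
    refine CC.base h (fun S S' hne => step h (fun X hX hcl => ih _ ?_ X n rfl hcl) hne)
    rw [← hc]
    have h1 := X.card_mul_index
    have h2 : X.index ≠ 1 := fun e => hX (Subgroup.index_eq_one.mp e)
    have h3 : X.index ≠ 0 := Subgroup.index_ne_zero_of_finite
    have h4 : 0 < Nat.card X := Nat.card_pos
    have h5 : 2 ≤ X.index := by omega
    calc Nat.card X < Nat.card X * 2 := by omega
      _ ≤ Nat.card X * X.index := Nat.mul_le_mul_left _ h5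
      _ = Nat.card Y := h1

omit h in
/-- **The core theorem.** -/
theorem core {Y : Type u} [Group Y] [Finite Y] {n : ℕ} (h : Cls Y n) : Concl Y n :=
  core_aux _ Y n rfl h

end Cfsg.Agent.Lib.EqOrd.CD
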