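/-
S4021. [GA*] Group level: from `Pp` to the core and back, non-normal elementary Sylow case. See PLAN.md.
-/
import Cfsg.Agent.Lib.EqOrd.CD
import Cfsg.Agent.Lib.EqOrd.GA1
import Cfsg.Agent.Lib.EqOrd.Pp
import Cfsg.Agent.Lib.EqOrd.PND
import Cfsg.Agent.S4020
import Cfsg.Agent.S4025

set_option autoImplicit false
set_option linter.style.haveILetI false
set_option linter.unusedSectionVars false

namespace Cfsg.Agent.Lib.EqOrd.GA

open Subgroup Cfsg Cfsg.Agent.Lib.EqOrd.Defs Cfsg.Agent.Lib.EqOrd.CB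

universe u

variable {G : Type u} [Group G] [Finite G] {n : ℕ}

/-- The subgroup generated by the involutions. -/
def Lg (G : Type u) [Group G] : Subgroup G := closure {t : G | orderOf t = 2}

instance Lg_normal : (Lg G).Normal := by
  refine ⟨fun a ha g => ?_⟩
  have hle : Lg G ≤ (Lg G).comap (MulAut.conj g).toMonoidHom := by
    refine (closure_le _).2 ?_
    intro t ht
    apply Subgroup.subset_closure
    show orderOf ((MulAut.conj g) t) = 2
    rw [MulEquiv.orderOf_eq]
    exact ht
  exact hle ha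

/-- The hypotheses of the non-normal elementary abelian case. -/
structure Hyp (G : Type u) [Group G] [Finite G] (n : ℕ) : Prop where
  pp : Pp G
  core : oddCore G = ⊥
  hn : 2 ≤ n
  hcard : ∀ S : Sylow 2 G, Nat.card S = 2 ^ n
  hel : ∀ S : Sylow 2 G, ∀ a ∈ (S : Subgroup G), a * a = 1
  hnn : ∀ S : Sylow 2 G, ¬ (S : Subgroup G).Normal

/-- [GA1] `|N(S) : C(S)|`, from S4025 (`N/O(N)` has order `2ⁿ |N:C|`, `C(S) = S × O(N)`; solvability: S0205);
`n = 2`: `N/C ≤ S₃` odd, and nontrivial by Burnside transfer since `O(G) = 1` and `S` is not normal. -/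
theorem N_data (h : Hyp G n) (S : Sylow 2 G) :
    ∃ w : ℕ, Nat.card (NN (S : Subgroup G)) = w * Nat.card (CC (S : Subgroup G)) ∧
      ((n = 2 ∧ w = 3) ∨ (n = 3 ∧ (w = 7 ∨ w = 21)) ∨ (n = 5 ∧ w = 155)) :=
  GA1.n_data (fun _ _ _ hX => Cfsg.Agent.S0205.result hX) h.pp h.core h.hn h.hcard h.hel h.hnn S

/-- A Sylow `2`-subgroup of `G` lies in `L` (its elements square to `1`). -/
theorem sylow_le_L (h : Hyp G n) (S : Sylow 2 G) : (S : Subgroup G) ≤ Lg G := by
  intro a ha
  by_cases h1 : a = 1
  · rw [h1]; exact one_mem _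
  · exact subset_closure (orderOf_eq_prime (by rw [pow_two]; exact h.hel S a ha) h1)

/-- Coe of a Sylow `q` subgroup of `L` lies in a Sylow subgroup of `G`. -/
theorem exists_sylow_G {q : ℕ} [Fact q.Prime] (P : Sylow q (Lg G)) :
    ∃ T : Sylow q G, ∀ a ∈ (P : Subgroup (Lg G)), (a : G) ∈ (T : Subgroup G) := by
  have hpg : IsPGroup q ((P : Subgroup (Lg G)).map (Lg G).subtype) :=
    P.isPGroup'.map _
  obtain ⟨T, hT⟩ := hpg.exists_le_sylow
  exact ⟨T, fun a ha => hT (Subgroup.mem_map.2 ⟨a, ha, rfl⟩)⟩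

/-- [GA2] `Cls0` for `L = ⟨involutions⟩`: the Sylow 2-subgroups of `G` lie in `L`. `hcoinv`: `PpL.coinv`;
`hcomm`: `PpL.inv_comm`; `hab`: S4020 (odd primes, cyclic or elementary, hab is for abelian Sylows,
`P` in `L` is the intersection of a Sylow of `G` with `L`; S4020 applied to `G`, never `Q₈` for odd `q`). -/
theorem cls0_L (h : Hyp G n) (hp : (2 ^ n - 1).Prime) : Cls0 (Lg G) n := by
  have hsub : ∀ S : Sylow 2 G, Nat.card (S.subtype (sylow_le_L h S) : Subgroup (Lg G)) = 2 ^ n := by
    intro S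
    rw [← h.hcard S, Sylow.coe_subtype]
    exact Nat.card_congr (Subgroup.subgroupOfEquivOfLe (sylow_le_L h S)).toEquiv
  have hel' : ∀ S : Sylow 2 (Lg G), ∀ a ∈ (S : Subgroup (Lg G)), a * a = 1 := by
    intro S a ha
    haveI : Fact (Nat.Prime 2) := ⟨Nat.prime_two⟩
    obtain ⟨T, hT⟩ := exists_sylow_G S
    exact Subtype.ext (h.hel T a (hT a ha))
  refine
    { hn := h.hn
      hp := hp
      hcard := ?_
      hel := hel'
      hcomm := ?_
      hcoinv := ?_
      hab := ?_
      hgen := ?_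
      hnn := ?_ }
  · intro S
    rw [← hsub (default : Sylow 2 G)]
    exact Nat.card_congr (Sylow.equiv S _).toEquiv
  · intro t u v ht hu hv hut hvt
    refine Subtype.ext (PpL.inv_comm h.pp h.hel t u v ?_ ?_ ?_ ?_ ?_)
    · rwa [Subgroup.orderOf_coe]
    · rwa [Subgroup.orderOf_coe]
    · rwa [Subgroup.orderOf_coe]
    · exact congrArg Subtype.val hut
    · exact congrArg Subtype.val hvt
  · intro q hq hq2 x y t s hx hy ht hs htx hsy
    refine PpL.coinv h.pp q hq hq2 x y t s ?_ ?_ ?_ ?_ ?_ ?_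
    · rwa [Subgroup.orderOf_coe]
    · rwa [Subgroup.orderOf_coe]
    · rwa [Subgroup.orderOf_coe]
    · rwa [Subgroup.orderOf_coe]
    · exact congrArg Subtype.val htx
    · exact congrArg Subtype.val hsy
  · intro q _ P a ha b hb
    by_cases hq2 : q = 2
    · subst hq2
      have h1 := hel' P a ha
      have h2 := hel' P b hb
      have h3 := hel' P (a * b) (mul_mem ha hb)
      calc a * b = a * (a * b * (a * b)) * b := by rw [h3, mul_one]
        _ = (a * a) * b * a * (b * b) := by group
        _ = b * a := by rw [h1, h2]; group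
    · obtain ⟨T, hT⟩ := exists_sylow_G P
      have hT' := hT a ha
      have hTb := hT b hb
      refine Subtype.ext ?_
      rcases Cfsg.Agent.S4020.result (fun p _ H K _ _ hc => h.pp H K hc) T with hc | he | ⟨⟨e⟩⟩
      · haveI := hc.commutative
        have := congrArg Subtype.val (mul_comm' (⟨a, hT'⟩ : (T : Subgroup G)) ⟨b, hTb⟩)
        exact this
      · haveI := he.1
        have := congrArg Subtype.val (mul_comm' (⟨a, hT'⟩ : (T : Subgroup G)) ⟨b, hTb⟩)
        exact this
      · exfalso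
        obtain ⟨k, hk⟩ := (IsPGroup.iff_card.1 T.isPGroup')
        have h8 : Nat.card (T : Subgroup G) = 8 := by
          rw [Nat.card_congr e.toEquiv, Nat.card_eq_fintype_card, QuaternionGroup.card]
        rw [h8] at hk
        have hd : 2 ∣ q ^ k := by rw [← hk]; norm_num
        have := (Nat.prime_dvd_prime_iff_eq Nat.prime_two (Fact.out : q.Prime)).1 (Nat.prime_two.dvd_of_dvd_pow hd)
        exact hq2 this.symm
  · have := Subgroup.closure_closure_coe_preimage (G := G) (k := {t : G | orderOf t = 2})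
    have hset : {t : Lg G | orderOf t = 2} = ((↑) : Lg G → G) ⁻¹' {t : G | orderOf t = 2} := by
      ext t
      simp
    rw [hset]
    exact this
  · by_contra hc
    rw [not_nontrivial_iff_subsingleton] at hc
    have S : Sylow 2 G := default
    refine h.hnn S (Subgroup.normalizer_eq_top_iff.1 (top_le_iff.1 fun g _ => ?_))
    refine Sylow.smul_eq_iff_mem_normalizer.1 ?_
    have h1 : (g • S : Sylow 2 G) ≤ Lg G := sylow_le_L h _
    exact Sylow.subtype_injective (hc.elim ((g • S).subtype h1) (S.subtype (sylow_le_L h S)))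

/-- [GA3] `p`-handling (see PLAN.md): if `|N(S):C(S)| = p * (2^n-1)`, `(n, p) = (3, 3)` or `(5, 5)`, then `L` has order
prime to `p`: Sylow `p`-subgroups of `G` are cyclic, `N(P) = C(P)`, Burnside gives a normal `p`-complement, it contains all the
involutions. -/
theorem p_not_dvd (h : Hyp G n) {p : ℕ} (hp : (n = 3 ∧ p = 3) ∨ (n = 5 ∧ p = 5)) (S : Sylow 2 G)
    (hw : Nat.card (NN (S : Subgroup G)) = (p * (2 ^ n - 1)) * Nat.card (CC (S : Subgroup G))) :
    ¬ p ∣ Nat.card (Lg G) :=
  Cfsg.Agent.Lib.EqOrd.PND.main h.pp h.hcard h.hel hp S hw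

/-- The action of `N(S)` on the involutions of `S` is transitive: `r` divides `|N(S) : C(S)|`. -/
theorem r_dvd_aux {Y : Type u} [Group Y] [Finite Y] (c : Cls0 Y n) (S : Sylow 2 Y) :
    ∃ k : ℕ, Nat.card (NN (S : Subgroup Y)) = (2 ^ n - 1) * k * Nat.card (CC (S : Subgroup Y)) := by
  classical
  obtain ⟨S', hS'⟩ := CA.exists_other c S
  have hS'' : S ≠ S' := fun e => hS' e.symm
  -- the involutions of `S`
  have hinv : ∀ a ∈ (S : Subgroup Y), a ≠ 1 → orderOf a = 2 := by
    intro a ha ha1
    exact orderOf_eq_prime (by rw [pow_two]; exact c.hel S a ha) ha1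
  have hcardS := c.hcard S
  have hn2 := c.hn
  have h4 : 4 ≤ 2 ^ n := by
    calc 4 = 2 ^ 2 := by norm_num
      _ ≤ 2 ^ n := Nat.pow_le_pow_right (by norm_num) hn2
  -- a nonidentity element
  have hnt : Nontrivial (S : Subgroup Y) := by
    rw [← Finite.one_lt_card_iff_nontrivial]
    show 1 < Nat.card (S : Subgroup Y)
    omega
  obtain ⟨⟨t, htS⟩, ht1⟩ := exists_ne (1 : (S : Subgroup Y))
  have ht1' : t ≠ 1 := fun e => ht1 (Subtype.ext e)
  have htord := hinv t htS ht1'
  -- the stabilizer of `t` in `N(S)`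
  let N := NN (S : Subgroup Y)
  let K : Subgroup N := (centralizer ({t} : Set Y)).subgroupOf N
  -- the map from cosets to the nonidentity elements of `S`
  let X := {a : (S : Subgroup Y) // a ≠ 1}
  have hXcard : Nat.card X = 2 ^ n - 1 := by
    have h1 : Nat.card X + 1 = Nat.card (S : Subgroup Y) := by
      have := Fintype.ofFinite (S : Subgroup Y)
      rw [Nat.card_eq_fintype_card, Nat.card_eq_fintype_card, Fintype.card_subtype_compl, Fintype.card_subtype_eq]
      have : 1 ≤ Fintype.card (S : Subgroup Y) := Fintype.card_pos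
      omega
    have h2 : Nat.card (S : Subgroup Y) = 2 ^ n := hcardS
    omega
  have hnorm : ∀ (d : N) (a : (S : Subgroup Y)), (d : Y) * a * (d : Y)⁻¹ ∈ (S : Subgroup Y) := by
    intro d a
    exact (mem_normalizer_iff.1 d.2 a).1 a.2
  let f : N → X := fun d => ⟨⟨(d : Y) * t * (d : Y)⁻¹, hnorm d ⟨t, htS⟩⟩, by
    intro e
    apply ht1'
    have e' : (d : Y) * t * (d : Y)⁻¹ = 1 := congrArg Subtype.val e
    have : t = (d : Y)⁻¹ * ((d : Y) * t * (d : Y)⁻¹) * (d : Y) := by group
    rw [this, e']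
    group⟩
  have hfsurj : Function.Surjective f := by
    rintro ⟨⟨a, ha⟩, ha1⟩
    have ha1' : a ≠ 1 := fun e => ha1 (Subtype.ext e)
    obtain ⟨d, hd1, hd2, hd3⟩ := CA.trans_D c hS'' htord htS (hinv a ha ha1') ha
    refine ⟨⟨d, mem_NN.2 hd1⟩, ?_⟩
    apply Subtype.ext
    apply Subtype.ext
    exact hd3
  have hfib : ∀ d e : N, f d = f e ↔ d⁻¹ * e ∈ K := by
    intro d e
    constructor
    · intro he
      have h1 : (d : Y) * t * (d : Y)⁻¹ = (e : Y) * t * (e : Y)⁻¹ :=
        congrArg (fun z : X => ((z.1 : (S : Subgroup Y)) : Y)) he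
      show ((d⁻¹ * e : N) : Y) ∈ centralizer ({t} : Set Y)
      rw [mem_centralizer_singleton_iff]
      show (d : Y)⁻¹ * (e : Y) * t = t * ((d : Y)⁻¹ * (e : Y))
      have h2 : (e : Y) * t = (d : Y) * t * (d : Y)⁻¹ * (e : Y) := by rw [h1]; group
      calc (d : Y)⁻¹ * (e : Y) * t = (d : Y)⁻¹ * ((e : Y) * t) := by group
        _ = (d : Y)⁻¹ * ((d : Y) * t * (d : Y)⁻¹ * (e : Y)) := by rw [h2]
        _ = _ := by group
    · intro he
      have h1 : ((d⁻¹ * e : N) : Y) ∈ centralizer ({t} : Set Y) := he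
      rw [mem_centralizer_singleton_iff] at h1
      have h2 : (d : Y)⁻¹ * (e : Y) * t = t * ((d : Y)⁻¹ * (e : Y)) := h1
      apply Subtype.ext
      apply Subtype.ext
      show (d : Y) * t * (d : Y)⁻¹ = (e : Y) * t * (e : Y)⁻¹
      have h3 : (e : Y) * t = (d : Y) * t * (d : Y)⁻¹ * (e : Y) := by
        calc (e : Y) * t = (d : Y) * ((d : Y)⁻¹ * (e : Y) * t) := by group
          _ = (d : Y) * (t * ((d : Y)⁻¹ * (e : Y))) := by rw [h2]
          _ = _ := by group
      rw [h3]
      group
  have hindex : K.index = Nat.card X := by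
    rw [Subgroup.index]
    refine Nat.card_congr (Equiv.ofBijective (Quotient.lift f ?_) ⟨?_, ?_⟩)
    · intro a b hab
      have h1 : a⁻¹ * b ∈ K := QuotientGroup.leftRel_apply.1 hab
      exact (hfib a b).2 h1
    · intro a b
      induction a using Quotient.inductionOn with
      | h a =>
      induction b using Quotient.inductionOn with
      | h b =>
      intro he
      exact Quotient.sound (QuotientGroup.leftRel_apply.2 ((hfib a b).1 he))
    · intro x
      obtain ⟨d, hd⟩ := hfsurj x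
      exact ⟨Quotient.mk _ d, hd⟩
  have hcardN : Nat.card N = Nat.card K * (2 ^ n - 1) := by
    rw [← hXcard, ← hindex, Subgroup.card_mul_index]
  -- `C(S)` inside `K`
  have hCN : CC (S : Subgroup Y) ≤ N := by
    intro g hg
    rw [mem_normalizer_iff]
    intro a
    have hg' := mem_centralizer_iff.1 hg
    constructor
    · intro ha
      have h1 : a * g = g * a := hg' a ha
      have : g * a * g⁻¹ = a := by rw [← h1]; group
      rwa [this]
    · intro ha
      have h1 := hg' _ ha
      have h2 : g * a * g⁻¹ * g = g * a := by group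
      rw [h2] at h1
      have h3 : g * (g * a * g⁻¹) = g * a := h1.symm
      have h4 : g * a * g⁻¹ = a := mul_left_cancel h3
      rwa [h4] at ha
  have hCK : (CC (S : Subgroup Y)).subgroupOf N ≤ K := by
    intro g hg
    have hg1 : (g : Y) ∈ CC (S : Subgroup Y) := hg
    show (g : Y) ∈ centralizer ({t} : Set Y)
    rw [mem_centralizer_singleton_iff]
    exact (mem_centralizer_iff.1 hg1 t htS).symm
  have hd := Subgroup.card_dvd_of_le hCK
  rw [Nat.card_congr (Subgroup.subgroupOfEquivOfLe hCN).toEquiv] at hd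
  obtain ⟨k, hk⟩ := hd
  refine ⟨k, ?_⟩
  show Nat.card N = _
  rw [hcardN, hk]
  ring

/-- The relative index of `C(S)` in `N(S)` in a subgroup divides the index in the group. -/
theorem dvd_aux {G : Type u} [Group G] [Finite G] (L : Subgroup G) (S : Subgroup L) (T : Subgroup G)
    (hT : T = S.map L.subtype) (w : ℕ)
    (hw : Nat.card (NN T) = w * Nat.card (CC T)) :
    ∃ m, m ∣ w ∧ Nat.card (NN S) = m * Nat.card (CC S) := by
  classical
  subst hT
  set T := S.map L.subtype with hT
  have hTmem : ∀ x : L, (x : G) ∈ T ↔ x ∈ S := by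
    intro x
    constructor
    · rintro ⟨y, hy, hyx⟩
      have : y = x := Subtype.ext hyx
      rwa [← this]
    · intro hx
      exact ⟨x, hx, rfl⟩
  have hmem : ∀ g : (NN S : Subgroup L), ((g : L) : G) ∈ normalizer (T : Set G) := by
    intro g
    rw [mem_normalizer_iff]
    intro a
    constructor
    · rintro ⟨y, hy, rfl⟩
      refine ⟨(g : L) * y * (g : L)⁻¹, (mem_normalizer_iff.1 g.2 y).1 hy, ?_⟩
      simp
    · rintro ⟨y, hy, hye⟩
      have ha : a ∈ L := by
        have h1 : a = ((g : L) : G)⁻¹ * (y : G) * ((g : L) : G) := by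
          have h2 : (y : G) = ((g : L) : G) * a * ((g : L) : G)⁻¹ := hye
          rw [h2]
          group
        rw [h1]
        exact L.mul_mem (L.mul_mem (L.inv_mem (g : L).2) y.2) (g : L).2
      have h3 : (⟨a, ha⟩ : L) ∈ S := by
        apply (mem_normalizer_iff.1 g.2 ⟨a, ha⟩).2
        have h4 : (g : L) * ⟨a, ha⟩ * (g : L)⁻¹ = y := Subtype.ext hye.symm
        rw [h4]
        exact hy
      exact ⟨⟨a, ha⟩, h3, rfl⟩
  let i : (NN S : Subgroup L) →* (normalizer (T : Set G) : Subgroup G) :=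
    { toFun := fun g => ⟨((g : L) : G), hmem g⟩
      map_one' := rfl
      map_mul' := fun _ _ => rfl }
  let ψG := T.normalizerMonoidHom
  let ψ := ψG.comp i
  have hkerG : ψG.ker = (centralizer (T : Set G)).subgroupOf (normalizer (T : Set G)) :=
    Subgroup.normalizerMonoidHom_ker T
  have hCN : CC T ≤ NN T := by
    intro g hg
    rw [mem_normalizer_iff]
    intro a
    have hg' := mem_centralizer_iff.1 hg
    constructor
    · intro ha
      have h1 : a * g = g * a := hg' a ha
      have : g * a * g⁻¹ = a := by rw [← h1]; group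
      rwa [this]
    · intro ha
      have h1 := hg' _ ha
      have h2 : g * a * g⁻¹ * g = g * a := by group
      rw [h2] at h1
      have h3 : g * (g * a * g⁻¹) = g * a := h1.symm
      have h4 : g * a * g⁻¹ = a := mul_left_cancel h3
      rwa [h4] at ha
  have hrG : Nat.card ψG.range = w := by
    have h1 := Subgroup.card_mul_index ψG.ker
    rw [Subgroup.index_ker, hkerG, Nat.card_congr (Subgroup.subgroupOfEquivOfLe hCN).toEquiv] at h1
    have hpos : 0 < Nat.card (CC T) := Nat.card_pos
    have h2 : Nat.card (CC T) * Nat.card ψG.range = Nat.card (CC T) * w := by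
      rw [h1]
      show Nat.card (NN T) = _
      rw [hw]
      ring
    exact Nat.eq_of_mul_eq_mul_left hpos h2
  refine ⟨Nat.card ψ.range, ?_, ?_⟩
  · rw [← hrG]
    apply Subgroup.card_dvd_of_le
    rintro _ ⟨g, rfl⟩
    exact ⟨i g, rfl⟩
  · have hCNS : CC S ≤ NN S := by
      intro g hg
      rw [mem_normalizer_iff]
      intro a
      have hg' := mem_centralizer_iff.1 hg
      constructor
      · intro ha
        have h1 : a * g = g * a := hg' a ha
        have : g * a * g⁻¹ = a := by rw [← h1]; group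
        rwa [this]
      · intro ha
        have h1 := hg' _ ha
        have h2 : g * a * g⁻¹ * g = g * a := by group
        rw [h2] at h1
        have h3 : g * (g * a * g⁻¹) = g * a := h1.symm
        have h4 : g * a * g⁻¹ = a := mul_left_cancel h3
        rwa [h4] at ha
    have hker : ψ.ker = (CC S).subgroupOf (NN S) := by
      ext g
      rw [MonoidHom.mem_ker, MonoidHom.comp_apply, ← MonoidHom.mem_ker, hkerG]
      show ((g : L) : G) ∈ centralizer (T : Set G) ↔ (g : L) ∈ centralizer (S : Set L)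
      rw [mem_centralizer_iff, mem_centralizer_iff]
      constructor
      · intro H a ha
        apply Subtype.ext
        exact H a ((hTmem a).2 ha)
      · rintro H _ ⟨y, hy, rfl⟩
        exact congrArg Subtype.val (H y hy)
    have h1 := Subgroup.card_mul_index ψ.ker
    rw [Subgroup.index_ker, hker, Nat.card_congr (Subgroup.subgroupOfEquivOfLe hCNS).toEquiv] at h1
    rw [← h1]
    ring

/-- [GA4] `hW` for `L`. `N_L(S)/C_L(S)` embeds in `N(S)/C(S)` (order `w`), nontrivial by `CA.exists_moved`, `r ∣ ` its order by S1225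
(`DD` transitive on `S#`) and order prime to `p` by `p_not_dvd` so it is `r`. -/
theorem cls_L (h : Hyp G n) (hp : (2 ^ n - 1).Prime) (w : ℕ)
    (hw : ∀ S : Sylow 2 G, Nat.card (NN (S : Subgroup G)) = w * Nat.card (CC (S : Subgroup G)))
    (hw' : w = 2 ^ n - 1 ∨ ∃ p, ((n = 3 ∧ p = 3) ∨ (n = 5 ∧ p = 5)) ∧ w = p * (2 ^ n - 1)) :
    Cls (Lg G) n := by
  classical
  have c0 := cls0_L h hp
  refine { c0 with hW := ?_ }
  intro S
  -- the image of `S` in `G`
  let T : Subgroup G := (S : Subgroup (Lg G)).map (Lg G).subtype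
  have hcT : Nat.card T = 2 ^ n := by
    rw [Subgroup.card_map_of_injective (Lg G).subtype_injective]
    exact c0.hcard S
  have : Fact (Nat.Prime 2) := ⟨Nat.prime_two⟩
  have hTp : IsPGroup 2 T := IsPGroup.of_card hcT
  obtain ⟨Q, hQ⟩ := hTp.exists_le_sylow
  have hTQ : T = (Q : Subgroup G) := by
    apply Subgroup.eq_of_le_of_card_ge hQ
    rw [hcT]
    exact (h.hcard Q).le
  have hwT : Nat.card (NN T) = w * Nat.card (CC T) := by
    rw [hTQ]
    exact hw Q
  obtain ⟨m, hmw, hm⟩ := dvd_aux (Lg G) (S : Subgroup (Lg G)) T rfl w hwT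
  obtain ⟨k, hk⟩ := r_dvd_aux c0 S
  have hpos : 0 < Nat.card (CC (S : Subgroup (Lg G))) := Nat.card_pos
  have hmk : m = (2 ^ n - 1) * k := by
    have h1 : m * Nat.card (CC (S : Subgroup (Lg G))) = (2 ^ n - 1) * k * Nat.card (CC (S : Subgroup (Lg G))) := by
      rw [← hm, hk]
    exact Nat.eq_of_mul_eq_mul_right hpos h1
  have hr : 0 < 2 ^ n - 1 := hp.pos
  have hmr : m = 2 ^ n - 1 := by
    rcases hw' with hw1 | ⟨p, hpn, hw1⟩
    · rw [hw1] at hmw
      have h1 : (2 ^ n - 1) ∣ m := ⟨k, hmk⟩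
      exact Nat.dvd_antisymm hmw h1
    · rw [hw1] at hmw
      rw [hmk] at hmw
      have h1 : k ∣ p := by
        rw [mul_comm p] at hmw
        exact Nat.dvd_of_mul_dvd_mul_left hr hmw
      have hpp : p.Prime := by
        rcases hpn with ⟨_, rfl⟩ | ⟨_, rfl⟩ <;> norm_num
      rcases (Nat.dvd_prime hpp).1 h1 with hk1 | hk1
      · rw [hmk, hk1, mul_one]
      · exfalso
        apply p_not_dvd h hpn Q
        · rw [← hw1]
          exact hw Q
        · have h2 : p ∣ Nat.card (NN (S : Subgroup (Lg G))) := by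
            rw [hk, hk1]
            exact Dvd.dvd.mul_right (Dvd.intro_left _ rfl) _
          exact h2.trans (Subgroup.card_subgroup_dvd_card _)
  rw [hm, hmr]

/-- [GA5] The centre of `L` is trivial: odd (no involution is central, `CA.smul_eq_iff` + `hnn`), characteristic in `L ⊲ G`. -/
theorem center_L (h : Hyp G n) (c : Cls (Lg G) n) : center (Lg G) = ⊥ := by
  have hno : ∀ z : Lg G, z ∈ center (Lg G) → orderOf z ≠ 2 := by
    intro z hz hz2
    obtain ⟨S, hS⟩ := CA.exists_syl c.toCls0 hz2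
    obtain ⟨S', hS'⟩ := CA.exists_other c.toCls0 S
    have hfix : z • S' = S' := by
      rw [Sylow.smul_eq_iff_mem_normalizer]
      change z ∈ normalizer ((S' : Subgroup (Lg G)) : Set (Lg G))
      rw [mem_normalizer_iff]
      intro a
      have e : z * a * z⁻¹ = a := by
        rw [(mem_center_iff.1 hz a).symm]; group
      rw [e]
    exact hS' ((CA.smul_eq_iff c.toCls0 hz2 hS S').1 hfix)
  have hodd : (Nat.card (center (Lg G))).Coprime 2 := by
    refine Nat.Coprime.symm ((Nat.Prime.coprime_iff_not_dvd Nat.prime_two).2 ?_)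
    intro hne
    haveI : Fact (Nat.Prime 2) := ⟨Nat.prime_two⟩
    obtain ⟨z, hz⟩ := exists_prime_orderOf_dvd_card' 2 hne
    have hz' : orderOf ((z : Lg G)) = 2 := (orderOf_coe z).trans hz
    exact hno z z.2 hz'
  have hZn : ((center (Lg G)).map (Lg G).subtype).Normal := by
    refine ⟨?_⟩
    rintro _ ⟨z, hz, rfl⟩ g
    have hm : g * (z : G) * g⁻¹ ∈ Lg G := (Lg_normal (G := G)).conj_mem _ z.2 g
    refine ⟨⟨_, hm⟩, ?_, rfl⟩
    change (⟨_, hm⟩ : Lg G) ∈ center (Lg G)
    rw [mem_center_iff]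
    intro a
    apply Subtype.ext
    have ha' : g⁻¹ * (a : G) * g ∈ Lg G := by
      have := (Lg_normal (G := G)).conj_mem _ a.2 g⁻¹
      simpa using this
    have hz' : z ∈ center (Lg G) := hz
    have e := congrArg Subtype.val (mem_center_iff.1 hz' ⟨_, ha'⟩)
    simp only [Subgroup.coe_mul] at e
    show (a : G) * (g * (z : G) * g⁻¹) = (g * (z : G) * g⁻¹) * a
    calc (a : G) * (g * (z : G) * g⁻¹) = g * ((g⁻¹ * a * g) * z) * g⁻¹ := by group
      _ = g * (z * (g⁻¹ * a * g)) * g⁻¹ := by rw [e]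
      _ = _ := by group
  have hle : (center (Lg G)).map (Lg G).subtype ≤ oddCore G := by
    refine le_sSup ⟨hZn, ?_⟩
    have e : Nat.card ((center (Lg G)).map (Lg G).subtype) = Nat.card (center (Lg G)) :=
      Nat.card_congr ((center (Lg G)).equivMapOfInjective _ (Lg G).subtype_injective).symm.toEquiv
    rw [e]; exact hodd
  rw [h.core] at hle
  rw [eq_bot_iff]
  intro z hz
  have : (z : G) ∈ (⊥ : Subgroup G) := hle ⟨z, hz, rfl⟩
  rw [mem_bot] at this
  rw [mem_bot]
  exact Subtype.ext this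

/-- [GA6] `L ≅ PSL₂(F)`, from `CC.psl_quot`, `CD.core`, `center_L`, `KK_central`. -/
theorem psl_L (h : Hyp G n) (c : Cls (Lg G) n) :
    ∃ (F : Type) (_ : Field F) (_ : Fintype F), Fintype.card F = 2 ^ n ∧
      Nonempty (Lg G ≃* Matrix.ProjectiveSpecialLinearGroup (Fin 2) F) := by
  have hC := CD.core c
  have hZ := center_L h c
  have hK : KK (Lg G) = ⊥ := le_bot_iff.1 (hZ ▸ KK_central c)
  obtain ⟨F, iF, fF, hF, ⟨e⟩⟩ := CC.psl_quot c hC.card_syl (by
    intro S c' hc'
    obtain ⟨s, hs, z, hz, rfl⟩ := hC.cent S c' hc'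
    refine ⟨s, hs, 1, one_mem _, ?_⟩
    rw [hZ] at hz
    rw [Subgroup.mem_bot.1 hz])
  exact ⟨F, iF, fF, hF, ⟨(QuotientGroup.quotientBot).symm.trans
    ((QuotientGroup.quotientMulEquivOfEq hK.symm).trans e)⟩⟩

/-- Sylow subgroups lie in `L`. -/
theorem syl_le_Lg (h : Hyp G n) (S : Sylow 2 G) : (S : Subgroup G) ≤ Lg G := by
  intro a ha
  by_cases ha1 : a = 1
  · subst ha1; exact one_mem _
  · apply Subgroup.subset_closure
    exact orderOf_eq_prime (by rw [pow_two]; exact h.hel S a ha) ha1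

theorem sylL_inj (h : Hyp G n) {S R : Sylow 2 G}
    (e : S.subtype (syl_le_Lg h S) = R.subtype (syl_le_Lg h R)) : S = R := by
  have e' := congrArg (fun Q : Sylow 2 (Lg G) => (Q : Subgroup (Lg G))) e
  simp only [Sylow.coe_subtype] at e'
  rw [subgroupOf_inj, inf_eq_left.2 (syl_le_Lg h S), inf_eq_left.2 (syl_le_Lg h R)] at e'
  exact Sylow.ext e'

theorem sylL_surj (h : Hyp G n) (R0 : Sylow 2 (Lg G)) :
    ∃ Q : Sylow 2 G, Q.subtype (syl_le_Lg h Q) = R0 := by
  have hp : IsPGroup 2 ((R0 : Subgroup (Lg G)).map (Lg G).subtype) := R0.2.map _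
  obtain ⟨Q, hQ⟩ := hp.exists_le_sylow
  refine ⟨Q, Sylow.ext ?_⟩
  refine R0.3 (Q.subtype (syl_le_Lg h Q)).2 ?_
  intro a ha
  exact hQ (mem_map_of_mem _ ha)

theorem card_syl_G (h : Hyp G n) (c : Cls (Lg G) n) : Nat.card (Sylow 2 G) = 2 ^ n + 1 := by
  rw [← (CD.core c).card_syl]
  exact Nat.card_congr (Equiv.ofBijective (fun S => S.subtype (syl_le_Lg h S))
    ⟨fun S R e => sylL_inj h e, sylL_surj h⟩)

theorem fix_of_mem {S : Sylow 2 G} {t : G} (ht : t ∈ (S : Subgroup G)) : t • S = S :=
  Sylow.smul_eq_iff_mem_normalizer.2 (le_normalizer ht)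

theorem fix_inv (h : Hyp G n) (c : Cls (Lg G) n) {S R : Sylow 2 G} {t : G} (ht : orderOf t = 2)
    (htS : t ∈ (S : Subgroup G)) (htR : t • R = R) : R = S := by
  let t' : Lg G := ⟨t, Subgroup.subset_closure ht⟩
  have ht' : orderOf t' = 2 := by rw [← Subgroup.orderOf_coe]; exact ht
  have hS' : t' ∈ ((S.subtype (syl_le_Lg h S) : Sylow 2 (Lg G)) : Subgroup (Lg G)) := by
    exact htS
  have hfix : t' • R.subtype (syl_le_Lg h R) = R.subtype (syl_le_Lg h R) := by
    refine Sylow.smul_eq_iff_mem_normalizer.2 ?_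
    have htR' := mem_normalizer_iff.1 (Sylow.smul_eq_iff_mem_normalizer.1 htR)
    exact mem_normalizer_iff.2 (fun a => htR' a)
  exact sylL_inj h ((CA.smul_eq_iff c.toCls0 ht' hS' _).1 hfix)

/-- `S` is regular on the other Sylow subgroups. -/
theorem regular (h : Hyp G n) (c : Cls (Lg G) n) {S R R' : Sylow 2 G} (hR : R ≠ S) (hR' : R' ≠ S) :
    ∃ t ∈ (S : Subgroup G), t • R = R' := by
  classical
  have hne : ∀ t : (S : Subgroup G), (t : G) • R ≠ S := by
    intro t e
    apply hR
    have h1 : (t : G)⁻¹ • S = S := fix_of_mem (S := S) (inv_mem t.2)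
    calc R = (t : G)⁻¹ • ((t : G) • R) := (inv_smul_smul _ _).symm
      _ = (t : G)⁻¹ • S := by rw [e]
      _ = S := h1
  let φ : ↥(S : Subgroup G) → {Q : Sylow 2 G // Q ≠ S} := fun t => ⟨(t : G) • R, hne t⟩
  have hinj : Function.Injective φ := by
    intro a b e
    have e' : (a : G) • R = (b : G) • R := congrArg Subtype.val e
    have hx : ((b : G)⁻¹ * a) • R = R := by rw [mul_smul, e', inv_smul_smul]
    have hmem : (b : G)⁻¹ * a ∈ (S : Subgroup G) := mul_mem (inv_mem b.2) a.2
    by_cases hx1 : (b : G)⁻¹ * a = 1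
    · exact Subtype.ext (by rw [inv_mul_eq_one] at hx1; exact hx1.symm)
    · exact absurd (fix_inv h c (orderOf_eq_prime (by rw [pow_two]; exact h.hel S _ hmem) hx1)
        hmem hx) hR
  have hcard : Nat.card {Q : Sylow 2 G // Q ≠ S} ≤ Nat.card (S : Subgroup G) := by
    have e1 : Nat.card (Option {Q : Sylow 2 G // Q ≠ S}) = Nat.card (Sylow 2 G) :=
      Nat.card_congr (Equiv.optionSubtypeNe S)
    rw [Finite.card_option, card_syl_G h c] at e1
    rw [h.hcard S]; omega
  obtain ⟨t, ht⟩ := (hinj.bijective_of_nat_card_le hcard).2 ⟨R', hR'⟩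
  exact ⟨t, t.2, congrArg Subtype.val ht⟩

/-- Two-elements normalizing a Sylow subgroup lie in it. -/
theorem mem_of_norm_of_pow {p : ℕ} [Fact p.Prime] {S : Sylow p G} {g : G} {k : ℕ} (hk : g ^ p ^ k = 1)
    (hg : g ∈ normalizer ((S : Subgroup G) : Set G)) : g ∈ (S : Subgroup G) := by
  have hp : p.Prime := Fact.out
  obtain ⟨j, -, hj⟩ := (Nat.dvd_prime_pow hp).1 (orderOf_dvd_of_pow_eq_one hk)
  have hz : IsPGroup p (zpowers g) := IsPGroup.of_card (n := j) (by rw [Nat.card_zpowers, hj])
  have hle : zpowers g ≤ normalizer ((S : Subgroup G) : Set G) := by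
    rw [zpowers_le]; exact hg
  have hsup := hz.to_sup_of_normal_right' S.2 hle
  have e := S.3 hsup le_sup_right
  have : g ∈ zpowers g ⊔ (S : Subgroup G) := mem_sup_left (mem_zpowers g)
  rw [e] at this
  exact this

theorem cent_le_norm {S : Subgroup G} {g : G} (hg : g ∈ centralizer (S : Set G)) :
    g ∈ normalizer (S : Set G) := by
  rw [mem_normalizer_iff]
  intro a
  rw [mem_centralizer_iff] at hg
  constructor
  · intro ha
    have := hg a ha
    rw [← this, mul_inv_cancel_right]
    exact ha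
  · intro ha
    have := hg _ ha
    have h2 : g * a * g⁻¹ * g = g * (g * a * g⁻¹) := this
    rw [inv_mul_cancel_right] at h2
    have h3 : a = g * a * g⁻¹ := mul_left_cancel h2
    rw [h3]; exact ha

/-- [GA7] `C_G(S) ≤ S`. An element `g` of odd order in `C_G(S)`: for `R ≠ S`, `S` is regular on the `2^n` others, so `t⁻¹ g` fixes `R`
for some `t ∈ S`; its odd power is `t⁻¹`, an involution fixing `R`, so `t = 1`. So `g` is in the kernel of the action on Sylow
subgroups, which has odd order, normal, trivial by `h.core`. -/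
theorem cent_T (h : Hyp G n) (c : Cls (Lg G) n) (S : Sylow 2 G) :
    CC (S : Subgroup G) ≤ (S : Subgroup G) := by
  classical
  have hcop : (Nat.card (MulAction.toPermHom G (Sylow 2 G)).ker).Coprime 2 := by
    rw [Nat.coprime_comm, Nat.Prime.coprime_iff_not_dvd Nat.prime_two]
    intro hd
    haveI : Fact (Nat.Prime 2) := ⟨Nat.prime_two⟩
    obtain ⟨x, hx⟩ := exists_prime_orderOf_dvd_card' 2 hd
    have hx' : orderOf (x : G) = 2 := by rw [Subgroup.orderOf_coe]; exact hx
    have hzp : IsPGroup 2 (zpowers (x : G)) :=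
      IsPGroup.of_card (n := 1) (by rw [Nat.card_zpowers, hx', pow_one])
    obtain ⟨Q, hQ⟩ := hzp.exists_le_sylow
    have hxQ : (x : G) ∈ (Q : Subgroup G) := hQ (mem_zpowers _)
    haveI : Nontrivial (Sylow 2 G) := Finite.one_lt_card_iff_nontrivial.1 (by
      rw [card_syl_G h c]
      have : 0 < 2 ^ n := by positivity
      omega)
    obtain ⟨R, hR⟩ := exists_ne Q
    have hxk := x.2
    rw [MonoidHom.mem_ker] at hxk
    have hfix : (x : G) • R = R := by
      have := congrArg (fun σ : Equiv.Perm (Sylow 2 G) => σ R) hxk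
      exact this
    exact hR (fix_inv h c hx' hxQ hfix)
  have hK : (MulAction.toPermHom G (Sylow 2 G)).ker ≤ oddCore G := le_sSup ⟨inferInstance, hcop⟩
  rw [h.core] at hK
  have hodd : ∀ g ∈ CC (S : Subgroup G), Odd (orderOf g) → g = 1 := by
    intro g hg hgo
    have hgfix : g • S = S := Sylow.smul_eq_iff_mem_normalizer.2 (cent_le_norm hg)
    apply mem_bot.1 (hK _)
    rw [MonoidHom.mem_ker]
    apply Equiv.ext
    intro R
    change g • R = R
    by_cases hRS : R = S
    · rw [hRS]; exact hgfix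
    · have hne : g • R ≠ S := by
        intro e
        apply hRS
        rw [← hgfix] at e
        exact smul_left_cancel g e
      obtain ⟨t, ht, htR⟩ := regular h c hRS hne
      have hw : (t⁻¹ * g) • R = R := by rw [mul_smul, ← htR, inv_smul_smul]
      have hcomm : Commute t⁻¹ g := by
        have := (mem_centralizer_iff.1 hg) t⁻¹ (inv_mem ht)
        exact this
      have htt : t⁻¹ ^ 2 = 1 := by rw [pow_two]; exact h.hel S _ (inv_mem ht)
      have hm : (t⁻¹ * g) ^ orderOf g = t⁻¹ := by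
        rw [hcomm.mul_pow, pow_orderOf_eq_one, mul_one]
        obtain ⟨j, hj⟩ := hgo
        rw [hj, pow_succ, pow_mul, htt, one_pow, one_mul]
      have hfixpow : ∀ m : ℕ, ((t⁻¹ * g) ^ m) • R = R := by
        intro m
        induction m with
        | zero => simp
        | succ m ih => rw [pow_succ, mul_smul, hw, ih]
      have ht_fix : t⁻¹ • R = R := by
        have := hfixpow (orderOf g)
        rwa [hm] at this
      by_cases ht1 : t = 1
      · subst ht1
        rw [one_smul] at htR
        exact htR.symm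
      · exfalso
        have hi : t⁻¹ ≠ 1 := inv_ne_one.2 ht1
        exact hRS (fix_inv h c (orderOf_eq_prime htt hi) (inv_mem ht) ht_fix)
  intro g hg
  obtain ⟨k, m, hm, hkm⟩ := Nat.exists_eq_two_pow_mul_odd (orderOf_pos g).ne'
  have h1 : g ^ 2 ^ k = 1 := by
    apply hodd _ (pow_mem hg _)
    apply hm.of_dvd_nat
    apply orderOf_dvd_of_pow_eq_one
    rw [← pow_mul, ← hkm, pow_orderOf_eq_one]
  exact mem_of_norm_of_pow h1 (cent_le_norm hg)

/-- [GA8] Frattini: `G = L N_G(S)`, and `|N_L(S)| = r * 2^n`. -/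
theorem card_G (h : Hyp G n) (c : Cls (Lg G) n) (w : ℕ)
    (hw : ∀ S : Sylow 2 G, Nat.card (NN (S : Subgroup G)) = w * Nat.card (CC (S : Subgroup G))) :
    Nat.card G * (2 ^ n - 1) = Nat.card (Lg G) * w := by
  classical
  obtain ⟨S⟩ : Nonempty (Sylow 2 G) := inferInstance
  have hle := syl_le_Lg h S
  have hcomm : ∀ a ∈ (S : Subgroup G), ∀ b ∈ (S : Subgroup G), a * b = b * a := by
    intro a ha b hb
    have h1 := h.hel S a ha
    have h2 := h.hel S b hb
    have h3 := h.hel S _ (mul_mem ha hb)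
    have h4 : a * b * (b * a) = 1 := by
      rw [mul_assoc, ← mul_assoc b, h2, one_mul, h1]
    exact mul_left_cancel (h3.trans h4.symm)
  have hCS : CC (S : Subgroup G) = S := by
    refine le_antisymm (cent_T h c S) ?_
    intro a ha
    rw [mem_centralizer_iff]
    intro b hb
    exact hcomm b hb a ha
  have hNc : Nat.card (NN (S : Subgroup G)) = w * 2 ^ n := by
    rw [hw S, hCS, h.hcard S]
  set SL : Sylow 2 (Lg G) := S.subtype hle with hSL
  have hNL := c.hW SL
  have hCL : CC (SL : Subgroup (Lg G)) = SL := by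
    apply le_antisymm
    · intro a ha
      change (a : G) ∈ (S : Subgroup G)
      apply cent_T h c S
      rw [mem_centralizer_iff]
      intro b hb
      have hb' : (⟨b, hle hb⟩ : Lg G) ∈ ((SL : Sylow 2 (Lg G)) : Subgroup (Lg G)) := by
        exact hb
      have := mem_centralizer_iff.1 ha _ hb'
      exact congrArg Subtype.val this
    · intro a ha
      rw [mem_centralizer_iff]
      intro b hb
      have ha' : (a : G) ∈ (S : Subgroup G) := ha
      have hb' : (b : G) ∈ (S : Subgroup G) := hb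
      exact Subtype.ext (hcomm _ hb' _ ha')
  rw [hCL, c.hcard SL] at hNL
  have e2 : Nat.card (NN (SL : Subgroup (Lg G))) =
      Nat.card ((Lg G).subgroupOf (NN (S : Subgroup G))) := by
    refine Nat.card_congr ⟨fun a => ⟨⟨a.1.1, ?_⟩, a.1.2⟩, fun b => ⟨⟨b.1.1, b.2⟩, ?_⟩, ?_, ?_⟩
    · rw [mem_normalizer_iff]
      intro x
      have hmem := mem_normalizer_iff.1 a.2
      by_cases hxL : x ∈ Lg G
      · exact hmem ⟨x, hxL⟩
      · constructor
        · intro hx; exact absurd (hle hx) hxL
        · intro hx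
          exfalso
          apply hxL
          have h5 := hle hx
          have h6 : x = (a.1.1)⁻¹ * (a.1.1 * x * (a.1.1)⁻¹) * a.1.1 := by group
          rw [h6]
          exact mul_mem (mul_mem (inv_mem a.1.2) h5) a.1.2
    · rw [mem_normalizer_iff]
      intro x
      exact mem_normalizer_iff.1 b.1.2 x.1
    · intro a; rfl
    · intro b; rfl
  have e1 : (Lg G).index = (Lg G).relIndex (NN (S : Subgroup G)) := by
    have e0 : NN (S : Subgroup G) ⊔ Lg G = ⊤ := Sylow.normalizer_sup_eq_top' S hle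
    rw [← relIndex_sup_right (NN (S : Subgroup G)) (Lg G), e0, relIndex_top_right]
  have e3 := Subgroup.card_mul_index ((Lg G).subgroupOf (NN (S : Subgroup G)))
  rw [← e2, hNL, hNc] at e3
  have e4 : (2 ^ n - 1) * (Lg G).index = w := by
    rw [e1]
    have hpos : 0 < 2 ^ n := by positivity
    apply Nat.eq_of_mul_eq_mul_right hpos
    rw [← e3, relIndex]
    ring
  have e5 := Subgroup.card_mul_index (Lg G)
  rw [← e5, ← e4]
  ring

end Cfsg.Agent.Lib.EqOrd.GA
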