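/-
S4021. [GF*] Final identification in the non-normal case. See PLAN.md.
-/
import Cfsg.Agent.Lib.EqOrd.GA
import Cfsg.Agent.S0494
import Cfsg.Agent.Lib.KS71.PSLAutGroup
import Cfsg.Agent.Lib.Classical.SLBasic
import Cfsg.Agent.Lib.TICent.Final
import Cfsg.Agent.Lib.Classical.AltIso
import Cfsg.Agent.Lib.Small.PSL2Rec

set_option autoImplicit false
set_option linter.style.haveILetI false
set_option linter.unusedSectionVars false

namespace Cfsg.Agent.Lib.EqOrd.GF

open Subgroup Cfsg Cfsg.Agent.Lib.EqOrd.Defs Cfsg.Agent.Lib.EqOrd.GA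

universe u

variable {G : Type u} [Group G] [Finite G] {n : ℕ}

/-- [GF1] `|Aut PSL₂(32)| ≤ 5 |PSL₂(32)|`. Use `Lib.KS71.PSLAutMain.main`, `|PGL₂(32)| = |PSL₂(32)|` in char 2,
`|Aut GF(32)| = 5`. -/
theorem card_aut_le : Nat.card (MulAut (Matrix.ProjectiveSpecialLinearGroup (Fin 2) (GaloisField 2 5))) ≤
    5 * Nat.card (Matrix.ProjectiveSpecialLinearGroup (Fin 2) (GaloisField 2 5)) := by
  letI : Fintype (GaloisField 2 5) := Fintype.ofFinite _
  have hF : Fintype.card (GaloisField 2 5) = 2 ^ 5 := by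
    rw [← Nat.card_eq_fintype_card]
    exact GaloisField.card 2 5 (by norm_num)
  have h1 := Cfsg.Agent.Lib.KS71.PSLAutGroup.card_two hF (by norm_num : 1 ≤ 5)
  rw [h1, Cfsg.Agent.Lib.Classical.SLBasic.card_pgl_eq_card_sl]
  have h2 : (2 : GaloisField 2 5) = 0 := by
    have := CharP.cast_eq_zero (GaloisField 2 5) 2
    exact_mod_cast this
  obtain ⟨e⟩ := Cfsg.Agent.Lib.TICent.Invol.sl_equiv_psl h2
  rw [Nat.card_congr e.toEquiv]

/-- Sylow `2`-subgroups of `G` lie in `Lg G`. -/
lemma sylow_le_Lg (h : Hyp G n) (S : Sylow 2 G) : (S : Subgroup G) ≤ Lg G := by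
  intro a ha
  by_cases ha1 : a = 1
  · rw [ha1]; exact one_mem _
  · apply Subgroup.subset_closure
    haveI : Fact (Nat.Prime 2) := ⟨Nat.prime_two⟩
    exact orderOf_eq_prime (by rw [pow_two]; exact h.hel S a ha) ha1

/-- The orders of normalizer and centralizer do not depend on the Sylow subgroup. -/
lemma card_NN_CC (S S' : Sylow 2 G) :
    Nat.card (NN (S' : Subgroup G)) = Nat.card (NN (S : Subgroup G)) ∧
      Nat.card (CC (S' : Subgroup G)) = Nat.card (CC (S : Subgroup G)) := by
  obtain ⟨g, rfl⟩ := MulAction.exists_smul_eq G S S'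
  have hmem : ∀ x : G, x ∈ ((g • S : Sylow 2 G) : Subgroup G) ↔ g⁻¹ * x * g ∈ (S : Subgroup G) := by
    intro x
    rw [Sylow.coe_subgroup_smul, Subgroup.mem_pointwise_smul_iff_inv_smul_mem]
    simp [MulAut.smul_def, MulAut.conj_apply]
  constructor
  · symm
    apply Nat.card_congr
    refine Equiv.subtypeEquiv (MulAut.conj g).toEquiv ?_
    intro x
    simp only [NN, mem_normalizer_iff, hmem, MulEquiv.toEquiv_eq_coe, EquivLike.coe_coe, MulAut.conj_apply, SetLike.mem_coe]
    constructor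
    · intro hx y
      have := hx (g⁻¹ * y * g)
      rw [this]
      constructor
      · intro hy
        convert hy using 1
        group
      · intro hy
        convert hy using 1
        group
    · intro hx y
      have := hx (g * y * g⁻¹)
      have e1 : g⁻¹ * (g * y * g⁻¹) * g = y := by group
      rw [e1] at this
      rw [this]
      constructor
      · intro hy
        convert hy using 1
        group
      · intro hy
        convert hy using 1
        group
  · symm
    apply Nat.card_congr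
    refine Equiv.subtypeEquiv (MulAut.conj g).toEquiv ?_
    intro x
    simp only [CC, mem_centralizer_iff, hmem, MulEquiv.toEquiv_eq_coe, EquivLike.coe_coe, MulAut.conj_apply, SetLike.mem_coe]
    constructor
    · intro hx y hy
      have := hx _ hy
      have e1 : y = g * (g⁻¹ * y * g) * g⁻¹ := by group
      rw [e1]
      calc g * (g⁻¹ * y * g) * g⁻¹ * (g * x * g⁻¹) = g * ((g⁻¹ * y * g) * x) * g⁻¹ := by group
        _ = g * (x * (g⁻¹ * y * g)) * g⁻¹ := by rw [this]
        _ = _ := by group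
    · intro hx y hy
      have := hx (g * y * g⁻¹) (by
        have e1 : g⁻¹ * (g * y * g⁻¹) * g = y := by group
        rw [e1]; exact hy)
      have h2 : g * (y * x) * g⁻¹ = g * (x * y) * g⁻¹ := by
        calc g * (y * x) * g⁻¹ = g * y * g⁻¹ * (g * x * g⁻¹) := by group
          _ = g * x * g⁻¹ * (g * y * g⁻¹) := this
          _ = _ := by group
      exact mul_left_cancel (mul_right_cancel h2)

/-- If `L = ⟨involutions⟩` has the same order as `G`, `G` is `L`. -/
lemma equiv_of_card (h : Nat.card G = Nat.card (Lg G)) : Nonempty (G ≃* Lg G) := by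
  have htop : Lg G = ⊤ := Subgroup.eq_top_of_card_eq _ h.symm
  exact ⟨(Subgroup.topEquiv.symm.trans (MulEquiv.subgroupCongr htop.symm))⟩

lemma finite_mulAut (X : Type*) [Group X] [Finite X] : Finite (MulAut X) :=
  Finite.of_injective (fun f : MulAut X => f.toEquiv) (fun a b hab => by
    ext x
    exact congrArg (fun f : X ≃ X => f x) hab)

/-- [GF2] `n = 2`: `G = L`, order 60, not solvable. `S0494`. -/
theorem final2 (h : Hyp G 2) : Nonempty (G ≃* alternatingGroup (Fin 5)) := by
  have hp : (2 ^ 2 - 1).Prime := by norm_num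
  have hw : ∀ S : Sylow 2 G, Nat.card (NN (S : Subgroup G)) = 3 * Nat.card (CC (S : Subgroup G)) := by
    intro S
    obtain ⟨w, h1, h2⟩ := N_data h S
    rcases h2 with ⟨_, rfl⟩ | ⟨h3, _⟩ | ⟨h3, _⟩
    · exact h1
    · omega
    · omega
  have c : Cls (Lg G) 2 := cls_L h hp 3 hw (Or.inl (by norm_num))
  obtain ⟨F, _, _, hF, ⟨e⟩⟩ := psl_L h c
  have hcard := card_G h c 3 hw
  have hGL : Nat.card G = Nat.card (Lg G) := by
    norm_num at hcard
    omega
  obtain ⟨e0⟩ := equiv_of_card hGL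
  have hA5 : Nonempty (Matrix.ProjectiveSpecialLinearGroup (Fin 2) F ≃* alternatingGroup (Fin 5)) := by
    have h' := Cfsg.Agent.Lib.Classical.AltIso.card_psl_two_mul (F := F)
    have hF4 : Fintype.card F = 4 := by
      rw [hF]; norm_num
    rw [hF4] at h'
    haveI hs : IsSimpleGroup (Matrix.ProjectiveSpecialLinearGroup (Fin 2) F) :=
      Matrix.ProjectiveSpecialLinearGroup.rank_two_simple (by rw [Nat.card_eq_fintype_card, hF4])
    have hc : Nat.card (Matrix.ProjectiveSpecialLinearGroup (Fin 2) F) = 60 := by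
      have : Nat.gcd (4 - 1) 2 = 1 := by norm_num
      rw [this] at h'
      omega
    exact Cfsg.Agent.S0494.result hc
  obtain ⟨e2⟩ := hA5
  exact ⟨e0.trans (e.trans e2)⟩

/-- [GF3] `n = 3`: `w = 21` impossible: `3 ∤ |L|` but `9 = |Sylow 2 L|` divides `|L|`. So `G = L`, and `pslCongr`,
`FiniteField.ringEquivOfCardEq`. -/
theorem final3 (h : Hyp G 3) :
    Nonempty (G ≃* Matrix.ProjectiveSpecialLinearGroup (Fin 2) (GaloisField 2 3)) := by
  have hp : (2 ^ 3 - 1).Prime := by norm_num
  obtain ⟨S₀⟩ : Nonempty (Sylow 2 G) := inferInstance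
  obtain ⟨w, h1, h2⟩ := N_data h S₀
  have hw0 : w = 7 ∨ w = 21 := by
    rcases h2 with ⟨h3, _⟩ | ⟨_, h3⟩ | ⟨h3, _⟩
    · omega
    · exact h3
    · omega
  have hw : ∀ S : Sylow 2 G, Nat.card (NN (S : Subgroup G)) = w * Nat.card (CC (S : Subgroup G)) := by
    intro S
    rw [(card_NN_CC S₀ S).1, (card_NN_CC S₀ S).2]
    exact h1
  have c : Cls (Lg G) 3 := cls_L h hp w hw (by
    rcases hw0 with rfl | rfl
    · left; norm_num
    · right; exact ⟨3, Or.inl ⟨rfl, rfl⟩, by norm_num⟩)
  obtain ⟨F, _, _, hF, ⟨e⟩⟩ := psl_L h c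
  have hcardL : Nat.card (Lg G) = 504 := by
    rw [Nat.card_congr e.toEquiv]
    have h' := Cfsg.Agent.Lib.Classical.AltIso.card_psl_two_mul (F := F)
    have hF8 : Fintype.card F = 8 := by rw [hF]; norm_num
    rw [hF8] at h'
    have : Nat.gcd (8 - 1) 2 = 1 := by norm_num
    rw [this] at h'
    omega
  rcases hw0 with rfl | rfl
  · have hcard := card_G h c 7 hw
    have hGL : Nat.card G = Nat.card (Lg G) := by
      norm_num at hcard
      omega
    obtain ⟨e0⟩ := equiv_of_card hGL
    haveI : Fintype (GaloisField 2 3) := Fintype.ofFinite _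
    have hcG : Fintype.card F = Fintype.card (GaloisField 2 3) := by
      rw [hF, ← Nat.card_eq_fintype_card, GaloisField.card 2 3 (by norm_num)]
    obtain ⟨e2⟩ := Cfsg.Agent.Lib.Small.PSL2Rec.nonempty_pslCongr_of_card hcG
    exact ⟨e0.trans (e.trans e2)⟩
  · exfalso
    have hnd := p_not_dvd h (p := 3) (Or.inl ⟨rfl, rfl⟩) S₀ (by simpa using h1)
    apply hnd
    rw [hcardL]
    norm_num

/-- [GF4] `n = 5`: `|G| = 5 |L|`; `C_G(L) ≤ C_G(S) ≤ S`, and trivial, so `G ↪ Aut L`, which has order at most `5|L|` by `card_aut_le`. -/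
theorem final5 (h : Hyp G 5) :
    Nonempty (G ≃* MulAut (Matrix.ProjectiveSpecialLinearGroup (Fin 2) (GaloisField 2 5))) := by
  have hp : (2 ^ 5 - 1).Prime := by norm_num
  have hw : ∀ S : Sylow 2 G, Nat.card (NN (S : Subgroup G)) = 155 * Nat.card (CC (S : Subgroup G)) := by
    intro S
    obtain ⟨w, h1, h2⟩ := N_data h S
    rcases h2 with ⟨h3, _⟩ | ⟨h3, _⟩ | ⟨_, rfl⟩
    · omega
    · omega
    · exact h1
  have c : Cls (Lg G) 5 := cls_L h hp 155 hw (Or.inr ⟨5, Or.inr ⟨rfl, rfl⟩, by norm_num⟩)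
  obtain ⟨F, _, _, hF, ⟨e⟩⟩ := psl_L h c
  haveI : Fintype (GaloisField 2 5) := Fintype.ofFinite _
  have hcG : Fintype.card F = Fintype.card (GaloisField 2 5) := by
    rw [hF, ← Nat.card_eq_fintype_card, GaloisField.card 2 5 (by norm_num)]
  obtain ⟨e2⟩ := Cfsg.Agent.Lib.Small.PSL2Rec.nonempty_pslCongr_of_card hcG
  let e3 := e.trans e2
  have hcard := card_G h c 155 hw
  have hGL : Nat.card G = 5 * Nat.card (Lg G) := by
    norm_num at hcard
    omega
  haveI : (Lg G).Normal := Lg_normal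
  let φ : G →* MulAut (Lg G) := MulAut.conjNormal
  have hinj : Function.Injective φ := by
    rw [injective_iff_map_eq_one]
    intro g hg
    have hgc : ∀ l ∈ Lg G, g * l * g⁻¹ = l := by
      intro l hl
      have := congrArg (fun f : MulAut (Lg G) => ((f ⟨l, hl⟩ : Lg G) : G)) hg
      simpa [φ, MulAut.conjNormal_apply] using this
    obtain ⟨S₀⟩ : Nonempty (Sylow 2 G) := inferInstance
    have hS := sylow_le_Lg h S₀
    have hgC : g ∈ CC (S₀ : Subgroup G) := by
      rw [mem_centralizer_iff]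
      intro y hy
      have := hgc y (hS hy)
      exact eq_mul_inv_iff_mul_eq.1 this.symm
    have hgS : g ∈ (S₀ : Subgroup G) := cent_T h c S₀ hgC
    have hgL : g ∈ Lg G := hS hgS
    have hz : (⟨g, hgL⟩ : Lg G) ∈ center (Lg G) := by
      rw [mem_center_iff]
      rintro ⟨l, hl⟩
      apply Subtype.ext
      have := hgc l hl
      show l * g = g * l
      exact eq_mul_inv_iff_mul_eq.1 this.symm
    rw [center_L h c, mem_bot] at hz
    exact congrArg Subtype.val hz
  let e4 : MulAut (Lg G) ≃* MulAut (Matrix.ProjectiveSpecialLinearGroup (Fin 2) (GaloisField 2 5)) := MulAut.congr e3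
  have hfin : Finite (MulAut (Matrix.ProjectiveSpecialLinearGroup (Fin 2) (GaloisField 2 5))) :=
    finite_mulAut _
  have hle : Nat.card (MulAut (Matrix.ProjectiveSpecialLinearGroup (Fin 2) (GaloisField 2 5))) ≤ Nat.card G := by
    rw [hGL, Nat.card_congr e3.toEquiv]
    exact card_aut_le
  have hbij : Function.Bijective (e4.toMonoidHom.comp φ) :=
    Function.Injective.bijective_of_nat_card_le (e4.injective.comp hinj) hle
  exact ⟨MulEquiv.ofBijective _ hbij⟩

/-- [GF5] The non-normal case. `n ∈ {2,3,5}` by `N_data`. -/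
theorem nonnormal (h : Hyp G n) : Nonempty (G ≃* alternatingGroup (Fin 5)) ∨
    Nonempty (G ≃* Matrix.ProjectiveSpecialLinearGroup (Fin 2) (GaloisField 2 3)) ∨
    Nonempty (G ≃* MulAut (Matrix.ProjectiveSpecialLinearGroup (Fin 2) (GaloisField 2 5))) := by
  obtain ⟨S₀⟩ : Nonempty (Sylow 2 G) := inferInstance
  obtain ⟨w, _, h2⟩ := N_data h S₀
  rcases h2 with ⟨rfl, _⟩ | ⟨rfl, _⟩ | ⟨rfl, _⟩
  · exact Or.inl (final2 h)
  · exact Or.inr (Or.inl (final3 h))
  · exact Or.inr (Or.inr (final5 h))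

end Cfsg.Agent.Lib.EqOrd.GF
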