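/-
S4021. [GN*] The normal elementary case, the cyclic case. See PLAN.md.
-/
import Cfsg.Agent.Lib.EqOrd.Pp
import Cfsg.Agent.S4025
import Cfsg.Agent.S0205
import Cfsg.Agent.Lib.ZStar.Main
import Cfsg.Agent.Lib.Classical.AltIso
import Cfsg.Agent.Lib.EqOrd.GA1

set_option autoImplicit false
set_option linter.style.haveILetI false
set_option linter.unusedSectionVars false

namespace Cfsg.Agent.Lib.EqOrd.GN

open Subgroup Cfsg Cfsg.Agent.Lib.EqOrd.Defs

universe u

variable {G : Type u} [Group G] [Finite G] {n : ℕ}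

/-- [GN1] `O(G/O(G)) = 1`. `Lib.Core.Basic.pPrimeCore_quotient_eq_bot`. -/
theorem core_quot (G : Type u) [Group G] [Finite G] : oddCore (G ⧸ oddCore G) = ⊥ :=
  Cfsg.Agent.Lib.Core.Basic.pPrimeCore_quotient_eq_bot

theorem aux_isPGroup (hodd : ∀ c : G, ¬ 2 ∣ orderOf c → c = 1) : IsPGroup 2 G := by
  intro g
  obtain ⟨k, m, hm, hg⟩ := Nat.exists_eq_two_pow_mul_odd (orderOf_pos g).ne'
  have h1 : ¬ 2 ∣ orderOf (g ^ 2 ^ k) := by
    rw [orderOf_pow' g (by positivity), hg, Nat.gcd_eq_right (Dvd.intro _ rfl), Nat.mul_div_cancel_left _ (by positivity)]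
    exact hm.not_two_dvd_nat
  exact ⟨k, hodd _ h1⟩

/-- [GN2] Cyclic Sylow `2`-subgroup and `O(G) = 1`: `G` is a cyclic `2`-group. `Lib.ZStar.Main.odd_mem_core_of_cyclic`. -/
theorem case_cyclic (h0 : oddCore G = ⊥) (T : Sylow 2 G) (hT : IsCyclic T) :
    IsCyclic G ∧ IsPGroup 2 G := by
  haveI : Fact (Nat.Prime 2) := ⟨Nat.prime_two⟩
  have hodd : ∀ c : G, ¬ 2 ∣ orderOf c → c = 1 := by
    intro c hc
    have := Cfsg.Agent.Lib.ZStar.Main.odd_mem_core_of_cyclic T hT hc
    rw [show pPrimeCore 2 G = ⊥ from h0] at this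
    simpa using this
  have hP := aux_isPGroup hodd
  refine ⟨?_, hP⟩
  have htop : (T : Subgroup G) = ⊤ := (T.is_maximal' (hP.to_subgroup ⊤) le_top).symm
  rw [htop] at hT
  exact isCyclic_of_surjective (Subgroup.topEquiv (G := G)).toMonoidHom (Subgroup.topEquiv (G := G)).surjective

theorem aux_core {N : Subgroup G} (hN : N = ⊤) (h0 : oddCore G = ⊥) : pPrimeCore 2 ↥N = ⊥ := by
  have hsub : N.IsSubnormal := by
    subst hN
    exact Subgroup.Normal.isSubnormal inferInstance
  have h1 := Cfsg.Agent.Lib.Core.Basic.map_pPrimeCore_le_of_isSubnormal (p := 2) hsub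
  rw [show pPrimeCore 2 G = ⊥ from h0, le_bot_iff] at h1
  exact (Subgroup.map_eq_bot_iff_of_injective _ N.subtype_injective).mp h1

theorem aux_solv (T : Sylow 2 G) (hN : (T : Subgroup G).Normal)
    (hel : ∀ a ∈ (T : Subgroup G), a * a = 1) : Group.IsSolvable G := by
  haveI := hN
  haveI : Group.IsSolvable ↥(T : Subgroup G) := isSolvable_of_comm (fun a b => Subtype.ext (by
    have h1 := hel _ ((T : Subgroup G).mul_mem a.2 b.2)
    have h2 := hel _ a.2
    have h3 := hel _ b.2
    show (a : G) * b = b * a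
    calc (a : G) * b = a * b * (b * a * (b * a)) := by rw [hel _ ((T : Subgroup G).mul_mem b.2 a.2), mul_one]
      _ = (a * (b * b) * a) * (b * a) := by group
      _ = b * a := by rw [h3, mul_one, h2, one_mul]))
  have hodd : Odd (Nat.card (G ⧸ (T : Subgroup G))) := by
    rw [← Subgroup.index_eq_card, ← Nat.not_even_iff_odd, even_iff_two_dvd]
    exact T.not_dvd_index
  haveI : Group.IsSolvable (G ⧸ (T : Subgroup G)) := Cfsg.Agent.S0205.result hodd
  refine solvable_of_ker_le_range (T : Subgroup G).subtype (QuotientGroup.mk' (T : Subgroup G)) ?_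
  rw [QuotientGroup.ker_mk', Subgroup.range_subtype]

/-- [GN3] `T` normal elementary abelian of order `2ⁿ`, `n ≥ 3`: S4025 with `N = ⊤`, and `G/O(G) ≅ G`
(solvability from S0205: `G/T` has odd order). -/
theorem case_normal3 (h : Pp G) (h0 : oddCore G = ⊥) (T : Sylow 2 G) (hN : (T : Subgroup G).Normal)
    (hn : 3 ≤ n) (hc : Nat.card T = 2 ^ n) (hel : ∀ a ∈ (T : Subgroup G), a * a = 1) :
    Nonempty (G ≃* affineGroup (GaloisField 2 3)) ∨ Nonempty (G ≃* semiaffineGroup (GaloisField 2 3)) ∨
      Nonempty (G ≃* semiaffineGroup (GaloisField 2 5)) := by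
  haveI : Fact (Nat.Prime 2) := ⟨Nat.prime_two⟩
  have hNtop : normalizer ((T : Subgroup G) : Set G) = ⊤ := normalizer_eq_top_iff.mpr hN
  have hcore := aux_core hNtop h0
  have e : ↥(normalizer ((T : Subgroup G) : Set G)) ⧸ pPrimeCore 2 ↥(normalizer ((T : Subgroup G) : Set G)) ≃* G :=
    (QuotientGroup.quotientMulEquivOfEq hcore).trans
      ((QuotientGroup.quotientBot).trans
        ((MulEquiv.subgroupCongr hNtop).trans Subgroup.topEquiv))
  have hsolvG := aux_solv T hN hel
  have hsolv : Group.IsSolvable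
      (↥(normalizer ((T : Subgroup G) : Set G)) ⧸ pPrimeCore 2 ↥(normalizer ((T : Subgroup G) : Set G))) :=
    Group.isSolvable_of_surjective (f := e.symm.toMonoidHom) e.symm.surjective
  have hab : IsElementaryAbelian 2 (T : Subgroup G) := by
    refine ⟨⟨⟨fun a b => Subtype.ext ?_⟩⟩, fun a ha => by rw [pow_two]; exact hel a ha⟩
    have h1 := hel _ ((T : Subgroup G).mul_mem a.2 b.2)
    have h2 := hel _ a.2
    have h3 := hel _ b.2
    show (a : G) * b = b * a
    calc (a : G) * b = a * b * (b * a * (b * a)) := by rw [hel _ ((T : Subgroup G).mul_mem b.2 a.2), mul_one]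
      _ = (a * (b * b) * a) * (b * a) := by group
      _ = b * a := by rw [h3, mul_one, h2, one_mul]
  rcases Cfsg.Agent.S4025.result (fun H K _ _ hc => h H K hc) T n hn hab hc _ rfl hsolv with ⟨-, -, h2⟩ | ⟨-, -, ⟨e2⟩⟩
  · rcases h2 rfl with ⟨⟨e2⟩⟩ | ⟨⟨e2⟩⟩
    · exact Or.inr (Or.inl ⟨e.symm.trans e2⟩)
    · exact Or.inl ⟨e.symm.trans e2⟩
  · exact Or.inr (Or.inr ⟨e.symm.trans e2⟩)

/-- [GN4] `T` normal of order 4, elementary: `C(T) = T` (Schur-Zassenhaus, `O(G) = 1`), `G/T` odd in `Aut V₄`, and nontrivial since `T`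
is not central (else `G = T × odd`, `G = T`, but two subgroups of order `2` are then not conjugate). So `|G| = 12`, faithful action on `4` points:
`Lib.Classical.AltIso.mulEquiv_alt_of_injective`. -/
theorem case_normal2 (h : Pp G) (h0 : oddCore G = ⊥) (T : Sylow 2 G) (hN : (T : Subgroup G).Normal)
    (hc : Nat.card T = 4) (hel : ∀ a ∈ (T : Subgroup G), a * a = 1) :
    Nonempty (G ≃* alternatingGroup (Fin 4)) := by
  classical
  haveI : Fact (Nat.Prime 2) := ⟨Nat.prime_two⟩
  haveI : Fact (Nat.Prime 3) := ⟨Nat.prime_three⟩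
  haveI := hN
  have hNtop : normalizer ((T : Subgroup G) : Set G) = ⊤ := normalizer_eq_top_iff.mpr hN
  have hcore := aux_core hNtop h0
  have hCC : Nat.card (centralizer ((T : Subgroup G) : Set G)) = 4 := by
    have h1 := Cfsg.Agent.Lib.EqOrd.GA1.card_CC T (n := 2) (by rw [hc]; norm_num) hel
    simp only [NN, CC] at h1
    rw [hcore] at h1
    simpa using h1
  have hcomm : ∀ a ∈ (T : Subgroup G), ∀ b ∈ (T : Subgroup G), a * b = b * a :=
    fun a ha b hb => Cfsg.Agent.Lib.EqOrd.GA1.comm_of_sq hel ha hb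
  have hle : (T : Subgroup G) ≤ centralizer ((T : Subgroup G) : Set G) := by
    intro x hx
    rw [mem_centralizer_iff]
    intro y hy
    exact hcomm y hy x hx
  have hCeq : centralizer ((T : Subgroup G) : Set G) = T :=
    (Subgroup.eq_of_le_of_card_ge hle (by rw [hCC]; exact hc.ge)).symm
  -- the conjugation action on `T`
  let φ : G →* Equiv.Perm (T : Subgroup G) := (MulAut.toPerm (T : Subgroup G)).comp (MulAut.conjNormal (H := (T : Subgroup G)))
  have hker : φ.ker = T := by
    refine Eq.trans ?_ hCeq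
    ext x
    rw [MonoidHom.mem_ker, mem_centralizer_iff]
    constructor
    · intro hx y hy
      have := congrArg (fun σ : Equiv.Perm (T : Subgroup G) => ((σ ⟨y, hy⟩ : (T : Subgroup G)) : G)) hx
      simp only [φ, MonoidHom.comp_apply] at this
      have h2 : x * y * x⁻¹ = y := this
      calc y * x = x * y * x⁻¹ * x := by rw [h2]
        _ = x * y := by group
    · intro hx
      apply Equiv.ext
      rintro ⟨y, hy⟩
      apply Subtype.ext
      show x * y * x⁻¹ = y
      rw [← hx y hy]
      group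
  have hdvd : (T : Subgroup G).index ∣ 24 := by
    rw [← hker, Subgroup.index_ker]
    have h1 := Subgroup.card_subgroup_dvd_card φ.range
    rw [Nat.card_perm, hc] at h1
    exact h1
  have hodd : ¬ 2 ∣ (T : Subgroup G).index := T.not_dvd_index
  have hcardG : Nat.card G = 4 * (T : Subgroup G).index := by
    rw [← hc]; exact (Subgroup.card_mul_index (T : Subgroup G)).symm
  have hm : (T : Subgroup G).index = 1 ∨ (T : Subgroup G).index = 3 := by
    have hle24 := Nat.le_of_dvd (by norm_num) hdvd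
    have hpos : 0 < (T : Subgroup G).index := Nat.pos_of_dvd_of_pos hdvd (by norm_num)
    generalize (T : Subgroup G).index = m at *
    interval_cases m <;> omega
  rcases hm with hm | hm
  · -- `T = G`: two subgroups of order two
    exfalso
    have htop : (T : Subgroup G) = ⊤ := Subgroup.index_eq_one.mp hm
    have hcg : ∀ a b : G, a * b = b * a := fun a b =>
      hcomm a (by rw [htop]; trivial) b (by rw [htop]; trivial)
    have hsq : ∀ a : G, a * a = 1 := fun a => hel a (by rw [htop]; trivial)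
    have hG4 : Nat.card G = 4 := by rw [hcardG, hm]
    have hnt : Nontrivial G := by
      apply Finite.one_lt_card_iff_nontrivial.mp
      omega
    obtain ⟨a, ha⟩ := exists_ne (1 : G)
    have hoa : orderOf a = 2 := orderOf_eq_prime (by rw [pow_two]; exact hsq a) ha
    have hza : Nat.card (zpowers a) = 2 := by rw [Nat.card_zpowers, hoa]
    have hne : zpowers a ≠ ⊤ := by
      intro he
      rw [he, Subgroup.card_top, hG4] at hza
      omega
    obtain ⟨b, hb⟩ : ∃ b, b ∉ zpowers a := by
      by_contra hall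
      push Not at hall
      exact hne (eq_top_iff.mpr fun x _ => hall x)
    have hb1 : b ≠ 1 := fun hb1 => hb (hb1 ▸ one_mem _)
    have hob : orderOf b = 2 := orderOf_eq_prime (by rw [pow_two]; exact hsq b) hb1
    have hzb : Nat.card (zpowers b) = 2 := by rw [Nat.card_zpowers, hob]
    obtain ⟨g, hg⟩ := h (zpowers a) (zpowers b) (hza.trans hzb.symm)
    have hb2 : b ∈ (zpowers a).map (MulAut.conj g).toMonoidHom := hg ▸ mem_zpowers b
    obtain ⟨x, hx, hxb⟩ := hb2
    apply hb
    have : x = b := by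
      have h3 : g * x * g⁻¹ = b := hxb
      rw [← h3, hcg g x]
      group
    exact this ▸ hx
  · -- `|G| = 12`
    have hG12 : Nat.card G = 12 := by rw [hcardG, hm]
    obtain ⟨H, hH⟩ := Sylow.exists_subgroup_card_pow_prime (G := G) 3 (n := 1) (by rw [hG12]; norm_num)
    have hH3 : Nat.card H = 3 := by rw [hH, pow_one]
    have hidx : Nat.card (G ⧸ H) = 4 := by
      have h1 := Subgroup.card_mul_index H
      rw [hH3, hG12] at h1
      rw [← Subgroup.index_eq_card]
      omega
    have hinj : Function.Injective (MulAction.toPermHom G (G ⧸ H)) := by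
      rw [← MonoidHom.ker_eq_bot_iff, ← Subgroup.normalCore_eq_ker]
      have hle1 : H.normalCore ≤ H := Subgroup.normalCore_le H
      have hcop : (Nat.card H.normalCore).Coprime 2 := by
        have h1 : Nat.card H.normalCore ∣ Nat.card H := Subgroup.card_dvd_of_le hle1
        rw [hH3] at h1
        exact Nat.Coprime.coprime_dvd_left h1 (by norm_num)
      have h2 := Cfsg.Agent.Lib.Core.Basic.le_pPrimeCore (p := 2) (Subgroup.normalCore_normal H) hcop
      rw [show pPrimeCore 2 G = ⊥ from h0] at h2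
      exact le_bot_iff.mp h2
    exact Cfsg.Agent.Lib.Classical.AltIso.mulEquiv_alt_of_injective _ hinj hidx
      (by rw [hG12]; decide) (by norm_num)

end Cfsg.Agent.Lib.EqOrd.GN
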