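/-
S4021. [GQ*] The quaternion case. See PLAN.md.
-/
import Cfsg.Agent.Lib.EqOrd.GF
import Cfsg.Agent.Lib.EqOrd.GN
import Cfsg.Agent.S3378
import Cfsg.Agent.Lib.ElementFusion.SL23
import Cfsg.Agent.Lib.Core.Basic
import Cfsg.Agent.Lib.ZStar.Quat
import Cfsg.Agent.Lib.Classical.SL2.MinSimple

set_option autoImplicit false
set_option linter.style.haveILetI false
set_option linter.unusedSectionVars false

namespace Cfsg.Agent.Lib.EqOrd.GQ

open Subgroup Cfsg Cfsg.Agent.Lib.EqOrd.Defs

universe u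

namespace GQAux

theorem q8_pow4 : ∀ x : QuaternionGroup 2, x ^ 4 = 1 := by decide +kernel

/-- `O(G/⟨z⟩) = 1` if `z` is a central involution, `O(G) = 1`. -/
theorem core_quot_two {G : Type u} [Group G] [Finite G] {z : G} (hz : orderOf z = 2)
    [(zpowers z).Normal] (h0 : oddCore G = ⊥) : oddCore (G ⧸ zpowers z) = ⊥ := by
  classical
  haveI : Fact (Nat.Prime 2) := ⟨Nat.prime_two⟩
  let π : G →* G ⧸ zpowers z := QuotientGroup.mk' (zpowers z)
  let D : Subgroup (G ⧸ zpowers z) := oddCore (G ⧸ zpowers z)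
  have hDn : D.Normal := Cfsg.pPrimeCore_normal 2 _
  have hD : (Nat.card D).Coprime 2 := Cfsg.Agent.Lib.Core.Basic.pPrimeCore_coprime
  let K : Subgroup G := D.comap π
  have hKn : K.Normal := hDn.comap π
  let P : Sylow 2 K := Classical.choice Sylow.nonempty
  have hPN : ∀ x : K, x ∈ (P : Subgroup K) → (x : G) ∈ zpowers z := by
    intro x hx
    have h1 : IsPGroup 2 ((P : Subgroup K).map (π.comp K.subtype)) := P.2.map _
    have h2 := Cfsg.Agent.Lib.Core.Basic.inf_eq_bot_of_isPGroup_of_coprime h1 hD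
    have h3 : π (x : G) ∈ (P : Subgroup K).map (π.comp K.subtype) ⊓ D :=
      ⟨⟨x, hx, rfl⟩, x.2⟩
    rw [h2, Subgroup.mem_bot] at h3
    exact (QuotientGroup.eq_one_iff _).mp h3
  have hcyc : IsCyclic (P : Subgroup K) := by
    let f : (P : Subgroup K) →* zpowers z :=
      (K.subtype.comp (P : Subgroup K).subtype).codRestrict (zpowers z) (fun x => hPN x.1 x.2)
    refine isCyclic_of_injective f ?_
    intro a b hab
    have h1 : (f a : G) = (f b : G) := congrArg Subtype.val hab
    exact Subtype.ext (Subtype.ext h1)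
  rw [eq_bot_iff]
  intro xb hxb
  obtain ⟨x, rfl⟩ := QuotientGroup.mk'_surjective (zpowers z) xb
  rw [Subgroup.mem_bot]
  have hxK : x ∈ K := hxb
  have hdc : (orderOf (π x)).Coprime 2 :=
    Cfsg.Agent.Lib.Core.Basic.orderOf_coprime_of_mem_pPrimeCore hxb
  set d := orderOf (π x) with hd
  have hdodd : Odd d := Nat.Coprime.odd_of_right hdc
  have hdpow : π x ^ d = 1 := pow_orderOf_eq_one _
  have hxd : x ^ d ∈ zpowers z := by
    have : π (x ^ d) = 1 := by rw [map_pow, hdpow]
    exact (QuotientGroup.eq_one_iff _).mp this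
  have hxd2 : x ^ (d * 2) = 1 := by
    rw [pow_mul]
    rcases Cfsg.Agent.Lib.ZStar.Main.mem_zpowers_two hz hxd with h | h
    · rw [h, one_pow]
    · rw [h, ← hz]
      exact pow_orderOf_eq_one z
  obtain ⟨m, hm⟩ := hdodd
  have hcd : (x ^ (d + 1)) ^ d = 1 := by
    have : (d + 1) * d = (d * 2) * (m + 1) := by rw [hm]; ring
    rw [← pow_mul, this, pow_mul, hxd2, one_pow]
  have hcK : x ^ (d + 1) ∈ K := K.pow_mem hxK _
  have hc2 : ¬ 2 ∣ orderOf (⟨x ^ (d + 1), hcK⟩ : K) := by
    rw [Subgroup.orderOf_mk]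
    intro h
    have h1 : orderOf (x ^ (d + 1)) ∣ d := orderOf_dvd_of_pow_eq_one hcd
    have h2 : 2 ∣ d := h.trans h1
    rw [hm] at h2
    omega
  have h5 := Cfsg.Agent.Lib.ZStar.Main.odd_mem_core_of_cyclic P hcyc hc2
  have h6 := Cfsg.Agent.Lib.Core.Basic.map_pPrimeCore_le_of_isSubnormal (p := 2)
    (Subgroup.Normal.isSubnormal hKn)
  have h7 : x ^ (d + 1) ∈ pPrimeCore 2 G := h6 ⟨_, h5, rfl⟩
  have h8 : x ^ (d + 1) = 1 := by
    have : x ^ (d + 1) ∈ oddCore G := h7
    rw [h0, Subgroup.mem_bot] at this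
    exact this
  have h9 : π (x ^ (d + 1)) = π x := by
    rw [map_pow, pow_succ, hdpow, one_mul]
  rw [h8, map_one] at h9
  exact h9.symm

/-- Conjugates of elements of a Sylow subgroup. -/
theorem mem_sylow_conj {X : Type*} [Group X] [Finite X] {p : ℕ} [Fact p.Prime] (A B : Sylow p X) {x : X}
    (hx : x ∈ (A : Subgroup X)) : ∃ g : X, g * x * g⁻¹ ∈ (B : Subgroup X) := by
  obtain ⟨g, hg⟩ := MulAction.exists_smul_eq X A B
  refine ⟨g, ?_⟩
  rw [← hg, Sylow.coe_subgroup_smul]
  exact Subgroup.smul_mem_pointwise_smul x (MulAut.conj g) (A : Subgroup X) hx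

end GQAux

open GQAux

variable {G : Type u} [Group G] [Finite G]

/-- [GQ1] `T ≅ Q₈` and `O(G) = 1`: the involution `z` of `T` is central (`Lib.ZStar.Main.zstar`, `z` is the unique involution of `T`;
`O(G) = 1` so `z ∈ Z*(G) = Z(G)`). `G ⧸ ⟨z⟩` has `Pp`, `O = 1`, a Sylow subgroup `V₄`, so it is `A₄` (T normal, `GN.case_normal2`) or `A₅`
(`GF.nonnormal`, `n = 2`). -/
theorem quot_cases (h : Pp G) (h0 : oddCore G = ⊥) (T : Sylow 2 G)
    (e : (T : Subgroup G) ≃* QuaternionGroup 2) :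
    ∃ z : G, orderOf z = 2 ∧ z ∈ center G ∧
      (((T : Subgroup G).Normal ∧ Nat.card G = 24) ∨ (Nat.card G = 120 ∧ ¬ Group.IsSolvable G)) := by
  classical
  haveI : Fact (Nat.Prime 2) := ⟨Nat.prime_two⟩
  obtain ⟨z, hzT, hiso, huniq⟩ := Cfsg.Agent.Lib.ZStar.Quat.exists_isolated T e
  have hz2 : orderOf z = 2 := hiso.1
  have hzc : z ∈ center G := by
    rw [Subgroup.mem_center_iff]
    intro g
    have h1 := Cfsg.Agent.Lib.ZStar.Main.zstar G z hiso g
    have h1' : z * g * z⁻¹ * g⁻¹ ∈ oddCore G := h1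
    rw [h0, Subgroup.mem_bot] at h1'
    have h2 : z * g * z⁻¹ = g := mul_inv_eq_one.mp h1'
    have h3 : z * g = g * z := mul_inv_eq_iff_eq_mul.mp h2
    exact h3.symm
  refine ⟨z, hz2, hzc, ?_⟩
  have hcomm : ∀ g : G, g * z = z * g := (Subgroup.mem_center_iff.mp hzc)
  haveI hN : (zpowers z).Normal := by
    refine ⟨fun n hn g => ?_⟩
    obtain ⟨k, rfl⟩ := Subgroup.mem_zpowers_iff.mp hn
    have h1 : g * z ^ k * g⁻¹ = z ^ k := by
      have h2 : Commute g (z ^ k) := Commute.zpow_right (hcomm g) k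
      rw [h2.eq, mul_inv_cancel_right]
    rw [h1]
    exact Subgroup.zpow_mem_zpowers z k
  let π : G →* G ⧸ zpowers z := QuotientGroup.mk' (zpowers z)
  have hπ : Function.Surjective π := QuotientGroup.mk'_surjective (zpowers z)
  have hpq : Pp (G ⧸ zpowers z) := Cfsg.Agent.Lib.EqOrd.PpL.quot h (zpowers z)
  have h0q : oddCore (G ⧸ zpowers z) = ⊥ := core_quot_two hz2 h0
  have hcardG : Nat.card G = Nat.card (G ⧸ zpowers z) * 2 := by
    rw [Subgroup.card_eq_card_quotient_mul_card_subgroup (zpowers z), Nat.card_zpowers, hz2]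
  have hT8 : Nat.card (T : Subgroup G) = 8 := by
    rw [Nat.card_congr e.toEquiv, Nat.card_eq_fintype_card, QuaternionGroup.card]
  have hcard : ∀ S : Sylow 2 (G ⧸ zpowers z), Nat.card S = 4 := by
    intro S
    have h1 := S.card_eq_multiplicity
    have h2 := T.card_eq_multiplicity
    rw [hT8, hcardG, Nat.factorization_mul Nat.card_pos.ne' (by norm_num), Finsupp.add_apply,
      Nat.Prime.factorization_self Nat.prime_two, pow_succ] at h2
    rw [h1]
    omega
  have hel0 : ∀ t ∈ (T : Subgroup G), π t * π t = 1 := by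
    intro t ht
    have h4 : t ^ 4 = 1 := by
      have h5 : (⟨t, ht⟩ : (T : Subgroup G)) ^ 4 = 1 := by
        apply e.injective
        rw [map_pow, q8_pow4, map_one]
      exact congrArg Subtype.val h5
    have hu : (t * t) ^ 2 = 1 := by
      rw [← sq, ← pow_mul]
      exact h4
    rw [← map_mul]
    rcases (Nat.dvd_prime Nat.prime_two).mp (orderOf_dvd_of_pow_eq_one hu) with h6 | h6
    · rw [orderOf_eq_one_iff.mp h6, map_one]
    · rw [huniq _ ((T : Subgroup G).mul_mem ht ht) h6]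
      exact (QuotientGroup.eq_one_iff _).mpr (Subgroup.mem_zpowers z)
  let Tb : Sylow 2 (G ⧸ zpowers z) := T.mapSurjective hπ
  have hel : ∀ S : Sylow 2 (G ⧸ zpowers z), ∀ a ∈ (S : Subgroup (G ⧸ zpowers z)), a * a = 1 := by
    intro S a ha
    obtain ⟨g, hg⟩ := mem_sylow_conj S Tb ha
    obtain ⟨t, ht, hta⟩ : g * a * g⁻¹ ∈ (T : Subgroup G).map π := hg
    have h1 := hel0 t ht
    change π t = _ at hta
    rw [hta] at h1
    have h2 : g * (a * a) * g⁻¹ = 1 := by
      rw [← h1]
      group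
    have h3 : g * (a * a) = g := by
      rw [mul_inv_eq_one] at h2
      exact h2
    exact mul_eq_left.mp h3
  by_cases hTN : (Tb : Subgroup (G ⧸ zpowers z)).Normal
  · left
    have hTn : (T : Subgroup G).Normal := by
      have h1 : (T : Subgroup G) = (Tb : Subgroup (G ⧸ zpowers z)).comap π := by
        change (T : Subgroup G) = ((T : Subgroup G).map π).comap π
        rw [Subgroup.comap_map_eq_self]
        rw [QuotientGroup.ker_mk']
        rw [Subgroup.zpowers_le]
        exact hzT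
      rw [h1]
      exact hTN.comap π
    obtain ⟨f⟩ := Cfsg.Agent.Lib.EqOrd.GN.case_normal2 hpq h0q Tb hTN (hcard Tb) (hel Tb)
    have hq12 : Nat.card (G ⧸ zpowers z) = 12 := by
      rw [Nat.card_congr f.toEquiv, nat_card_alternatingGroup]
      simp [Nat.factorial]
    exact ⟨hTn, by rw [hcardG, hq12]⟩
  · right
    have hnn : ∀ S : Sylow 2 (G ⧸ zpowers z), ¬ (S : Subgroup (G ⧸ zpowers z)).Normal := by
      intro S hS
      apply hTN
      haveI := Sylow.unique_of_normal S hS
      rw [Subsingleton.elim Tb S]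
      exact hS
    obtain ⟨f⟩ := Cfsg.Agent.Lib.EqOrd.GF.final2 (G := G ⧸ zpowers z)
      ⟨hpq, h0q, le_refl 2, fun S => by rw [hcard S]; norm_num, hel, hnn⟩
    have hq60 : Nat.card (G ⧸ zpowers z) = 60 := by
      rw [Nat.card_congr f.toEquiv, nat_card_alternatingGroup]
      simp [Nat.factorial]
    refine ⟨by rw [hcardG, hq60], ?_⟩
    intro hsolv
    haveI := hsolv
    have h1 : Group.IsSolvable (G ⧸ zpowers z) := inferInstance
    exact Cfsg.Agent.Lib.Classical.SL2.MinSimple.not_solvable_A5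
      (Group.isSolvable_of_surjective (f := f.toMonoidHom) f.surjective)

namespace SL23Aux

open QuaternionGroup

/-- The candidate hom with `a 1 ↦ u`, `xa 0 ↦ v`. -/
def ff (u v : QuaternionGroup 2) : QuaternionGroup 2 → QuaternionGroup 2
  | a s => u ^ s.val
  | xa s => v * u ^ s.val

theorem eq_ff (τ : QuaternionGroup 2 →* QuaternionGroup 2) (x : QuaternionGroup 2) :
    τ x = ff (τ (a 1)) (τ (xa 0)) x := by
  cases x with
  | a s =>
    show τ (a s) = τ (a 1) ^ s.val
    rw [← map_pow]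
    congr 1
    revert s
    decide +kernel
  | xa s =>
    show τ (xa s) = τ (xa 0) * τ (a 1) ^ s.val
    rw [← map_pow, ← map_mul]
    congr 1
    revert s
    decide +kernel

/-- The finite check. -/
theorem key : ∀ u v : QuaternionGroup 2,
    (∀ x y, ff u v (x * y) = ff u v x * ff u v y) →
    (∀ x, ff u v (ff u v (ff u v x)) = x) →
    (∃ x, ff u v x ≠ x) →
    ∃ i : QuaternionGroup 2, i ^ 4 = 1 ∧ (ff u v i) ^ 2 = i ^ 2 ∧
      ff u v i * i * (ff u v i)⁻¹ = i⁻¹ ∧ ff u v (ff u v i) = ff u v i * i ∧ i ^ 2 ≠ 1 ∧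
      ∀ x : QuaternionGroup 2, ∃ s : Fin 4, ∃ t : Fin 2, x = i ^ s.val * (ff u v i) ^ t.val := by
  decide +kernel

end SL23Aux

/-- [GQ2] `|G| = 24`, Sylow `Q₈`, `O(G) = 1`: `T` is normal (as `G/⟨z⟩ ≅ A₄`, or 1 or 3 Sylows: if 3 then their intersection..; take this from
`quot_cases` if easier), `G = Q₈ ⋊ C₃` nontrivially, normal form `y i y⁻¹ = j`, `y j y⁻¹ = j i`:
`Lib.ElementFusion.SL23.nonempty_mulEquiv_sl23`. -/
theorem sl23 (h0 : oddCore G = ⊥) (T : Sylow 2 G) (e : (T : Subgroup G) ≃* QuaternionGroup 2)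
    (hc : Nat.card G = 24) (hT : (T : Subgroup G).Normal) :
    Nonempty (G ≃* Matrix.SpecialLinearGroup (Fin 2) (ZMod 3)) := by
  classical
  have hcT : Nat.card (T : Subgroup G) = 8 := by
    rw [Nat.card_congr e.toEquiv, Nat.card_eq_fintype_card, QuaternionGroup.card]
  obtain ⟨y, hy⟩ : ∃ y : G, orderOf y = 3 := by
    haveI : Fact (Nat.Prime 3) := ⟨by norm_num⟩
    exact exists_prime_orderOf_dvd_card' 3 (by rw [hc]; norm_num)
  have hy3 : y ^ 3 = 1 := by rw [← hy, pow_orderOf_eq_one]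
  -- a subgroup containing `T` and `y` is everything
  have htop : ∀ H : Subgroup G, (T : Subgroup G) ≤ H → y ∈ H → H = ⊤ := by
    intro H hTH hyH
    have h8 : 8 ∣ Nat.card H := by
      rw [← hcT]; exact Subgroup.card_dvd_of_le hTH
    have h3 : 3 ∣ Nat.card H := by
      have h1 : orderOf (⟨y, hyH⟩ : H) = 3 := by
        rw [Subgroup.orderOf_mk, hy]
      rw [← h1]; exact orderOf_dvd_natCard _
    have h24 : 24 ∣ Nat.card H := by
      have : Nat.Coprime 8 3 := by norm_num
      exact Nat.Coprime.mul_dvd_of_dvd_of_dvd this h8 h3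
    have hle : Nat.card H ∣ Nat.card G := Subgroup.card_subgroup_dvd_card H
    rw [hc] at hle
    have : Nat.card H = 24 := Nat.dvd_antisymm hle h24
    apply Subgroup.eq_top_of_card_eq
    rw [this, hc]
  -- the maps
  let φ : QuaternionGroup 2 →* G := (T : Subgroup G).subtype.comp e.symm.toMonoidHom
  have hφinj : Function.Injective φ := by
    intro x x' hx
    apply e.symm.injective
    exact Subtype.ext hx
  have hφT : ∀ t ∈ (T : Subgroup G), ∃ x, φ x = t := by
    intro t ht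
    refine ⟨e ⟨t, ht⟩, ?_⟩
    simp [φ]
  have hφmem : ∀ x, φ x ∈ (T : Subgroup G) := fun x => (e.symm x).2
  let τ : QuaternionGroup 2 →* QuaternionGroup 2 :=
    e.toMonoidHom.comp ((MulAut.conjNormal y : MulAut (T : Subgroup G)).toMonoidHom.comp e.symm.toMonoidHom)
  have hτ : ∀ x, φ (τ x) = y * φ x * y⁻¹ := by
    intro x
    simp [φ, τ, MulAut.conjNormal_apply]
  have hτ3 : ∀ x, τ (τ (τ x)) = x := by
    intro x
    apply hφinj
    rw [hτ, hτ, hτ]
    have h1 : y * (y * (y * φ x * y⁻¹) * y⁻¹) * y⁻¹ = y ^ 3 * φ x * (y ^ 3)⁻¹ := by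
      simp only [pow_succ, pow_zero, one_mul, mul_inv_rev, mul_assoc]
    rw [h1, hy3]
    simp
  -- `τ` is nontrivial
  have hτne : ∃ x, τ x ≠ x := by
    by_contra hall
    push Not at hall
    have hcomm : ∀ t ∈ (T : Subgroup G), y * t * y⁻¹ = t := by
      intro t ht
      obtain ⟨x, rfl⟩ := hφT t ht
      rw [← hτ, hall]
    have hC : Subgroup.centralizer ({y} : Set G) = ⊤ := by
      apply htop
      · intro t ht
        rw [Subgroup.mem_centralizer_singleton_iff]
        have := hcomm t ht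
        rw [mul_inv_eq_iff_eq_mul] at this
        exact this.symm
      · rw [Subgroup.mem_centralizer_singleton_iff]
    have hcen : ∀ g : G, g * y = y * g := by
      intro g
      have : g ∈ Subgroup.centralizer ({y} : Set G) := by rw [hC]; trivial
      exact Subgroup.mem_centralizer_singleton_iff.1 this
    have hn : (zpowers y).Normal := by
      constructor
      intro z hz g
      have h2 : g * z * g⁻¹ = z := by
        obtain ⟨k, rfl⟩ := hz
        have : Commute g (y ^ k) := ((show Commute g y from hcen g).zpow_right k)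
        rw [this.eq, mul_inv_cancel_right]
      rw [h2]; exact hz
    have hle : zpowers y ≤ oddCore G :=
      Cfsg.Agent.Lib.Core.Basic.le_pPrimeCore hn (by
        rw [Nat.card_zpowers, hy]; norm_num)
    rw [h0] at hle
    have h1 : y = 1 := by
      have : y ∈ (⊥ : Subgroup G) := hle (mem_zpowers y)
      simpa using this
    rw [h1, orderOf_one] at hy
    omega
  -- the finite check
  have hF : ∀ x, SL23Aux.ff (τ (QuaternionGroup.a 1)) (τ (QuaternionGroup.xa 0)) x = τ x :=
    fun x => (SL23Aux.eq_ff τ x).symm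
  obtain ⟨i, hi4, hj2, hji, hjj, hi2, hgen⟩ := SL23Aux.key (τ (QuaternionGroup.a 1)) (τ (QuaternionGroup.xa 0))
    (by intro x x'; simp only [hF, map_mul])
    (by intro x; simp only [hF]; exact hτ3 x)
    (by simpa only [hF] using hτne)
  simp only [hF] at hj2 hji hjj hgen
  have hinj1 : φ i ^ 2 ≠ 1 := by
    intro h1
    apply hi2
    apply hφinj
    rw [map_pow, h1, map_one]
  refine ⟨(Cfsg.Agent.Lib.ElementFusion.SL23.nonempty_mulEquiv_sl23 (φ i) (φ (τ i)) y
    (by rw [← map_pow, hi4, map_one])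
    (by rw [← map_pow, hj2, map_pow])
    (by rw [← map_mul, ← map_inv, ← map_mul, hji, map_inv])
    hy3
    (hτ i).symm
    (by rw [← hτ, hjj, map_mul])
    hinj1
    ?_).some⟩
  apply htop
  · intro t ht
    obtain ⟨x, rfl⟩ := hφT t ht
    obtain ⟨s, r, rfl⟩ := hgen x
    rw [map_mul, map_pow, map_pow]
    exact Subgroup.mul_mem _ (Subgroup.pow_mem _ (Subgroup.subset_closure (by simp)) _)
      (Subgroup.pow_mem _ (Subgroup.subset_closure (by simp)) _)
  · exact Subgroup.subset_closure (by simp)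

/-- [GQ3] The quaternion case. -/
theorem case_Q8 (h : Pp G) (h0 : oddCore G = ⊥) (T : Sylow 2 G) (e : (T : Subgroup G) ≃* QuaternionGroup 2) :
    Nonempty (G ≃* Matrix.SpecialLinearGroup (Fin 2) (ZMod 3)) ∨
      Nonempty (G ≃* Matrix.SpecialLinearGroup (Fin 2) (ZMod 5)) := by
  haveI : Fact (Nat.Prime 2) := ⟨Nat.prime_two⟩
  obtain ⟨z, -, -, ⟨hN, h24⟩ | ⟨h120, hns⟩⟩ := quot_cases h h0 T e
  · exact Or.inl (sl23 h0 T e h24 hN)
  · exact Or.inr (Cfsg.Agent.S3378.result.1 G h120 hns fun P => ⟨(Sylow.equiv P T).trans e⟩)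

end Cfsg.Agent.Lib.EqOrd.GQ
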