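/-
S4021. Assembled; the statement file `Cfsg/Agent/S4021.lean` applies `main` to `G ⧸ oddCore G`.
-/
import Cfsg.Agent.Lib.EqOrd.GQ

set_option autoImplicit false
set_option linter.style.haveILetI false
set_option linter.unusedSectionVars false

namespace Cfsg.Agent.Lib.EqOrd.Wrap

open Subgroup Cfsg Cfsg.Agent.Lib.EqOrd.Defs

universe u

/-- The main theorem when `O(G) = 1`. -/
theorem main {G : Type u} [Group G] [Finite G] (h : Pp G) (h0 : oddCore G = ⊥) :
    (IsCyclic G ∧ IsPGroup 2 G) ∨
    Nonempty (G ≃* affineGroup (GaloisField 2 3)) ∨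
    Nonempty (G ≃* semiaffineGroup (GaloisField 2 3)) ∨
    Nonempty (G ≃* semiaffineGroup (GaloisField 2 5)) ∨
    Nonempty (G ≃* Matrix.ProjectiveSpecialLinearGroup (Fin 2) (GaloisField 2 3)) ∨
    Nonempty (G ≃* MulAut (Matrix.ProjectiveSpecialLinearGroup (Fin 2) (GaloisField 2 5))) ∨
    Nonempty (G ≃* alternatingGroup (Fin 4)) ∨
    Nonempty (G ≃* alternatingGroup (Fin 5)) ∨
    Nonempty (G ≃* Matrix.SpecialLinearGroup (Fin 2) (ZMod 3)) ∨
    Nonempty (G ≃* Matrix.SpecialLinearGroup (Fin 2) (ZMod 5)) := by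
  haveI : Fact (Nat.Prime 2) := ⟨Nat.prime_two⟩
  obtain ⟨T⟩ : Nonempty (Sylow 2 G) := inferInstance
  rcases Cfsg.Agent.S4020.result (G := G) (fun p _ H K _ _ hc => h H K hc) T with hc | hel | he
  · exact Or.inl (GN.case_cyclic h0 T hc)
  · obtain ⟨n, hn⟩ := IsPGroup.iff_card.1 T.isPGroup'
    have hel2 : ∀ a ∈ (T : Subgroup G), a * a = 1 := fun a ha => by
      rw [← pow_two]; exact hel.2 a ha
    by_cases hn2 : 2 ≤ n
    · by_cases hN : (T : Subgroup G).Normal
      · by_cases hn3 : 3 ≤ n
        · rcases GN.case_normal3 h h0 T hN hn3 hn hel2 with h1 | h1 | h1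
          · exact Or.inr (Or.inl h1)
          · exact Or.inr (Or.inr (Or.inl h1))
          · exact Or.inr (Or.inr (Or.inr (Or.inl h1)))
        · have hn4 : n = 2 := by omega
          subst hn4
          exact Or.inr (Or.inr (Or.inr (Or.inr (Or.inr (Or.inr (Or.inl
            (GN.case_normal2 h h0 T hN (by rw [hn]; norm_num) hel2)))))))
      · have hconj : ∀ S : Sylow 2 G, ∃ g : G, g • T = S := fun S => MulAction.exists_smul_eq G T S
        have hyp : GA.Hyp G n := by
          refine ⟨h, h0, hn2, ?_, ?_, ?_⟩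
          · intro S
            rw [S.card_eq_multiplicity, ← T.card_eq_multiplicity, hn]
          · intro S a ha
            obtain ⟨g, rfl⟩ := hconj S
            have h1 : g⁻¹ * a * g ∈ (T : Subgroup G) := by
              have h2 := Cfsg.Agent.Lib.EqOrd.CA.conj_mem_smul g⁻¹ a (g • T) ha
              rw [inv_smul_smul, inv_inv] at h2
              exact h2
            have h3 := hel2 _ h1
            have h4 : g⁻¹ * (a * a) * g = 1 := by
              calc g⁻¹ * (a * a) * g = (g⁻¹ * a * g) * (g⁻¹ * a * g) := by group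
                _ = 1 := h3
            have h5 : a * a = g * (g⁻¹ * (a * a) * g) * g⁻¹ := by group
            rw [h5, h4]
            group
          · intro S hS
            obtain ⟨g, rfl⟩ := hconj S
            apply hN
            haveI : ((g • T : Sylow 2 G) : Subgroup G).Normal := hS
            have h1 : g⁻¹ • (g • T) = g • T := Sylow.smul_eq_of_normal
            rw [inv_smul_smul] at h1
            rw [h1]
            exact hS
        rcases GF.nonnormal hyp with h1 | h1 | h1
        · exact Or.inr (Or.inr (Or.inr (Or.inr (Or.inr (Or.inr (Or.inr (Or.inl h1)))))))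
        · exact Or.inr (Or.inr (Or.inr (Or.inr (Or.inl h1))))
        · exact Or.inr (Or.inr (Or.inr (Or.inr (Or.inr (Or.inl h1)))))
    · have hcyc : IsCyclic T := by
        have hn1 : n = 0 ∨ n = 1 := by omega
        rcases hn1 with rfl | rfl
        · rw [pow_zero] at hn
          haveI : Subsingleton T := (Nat.card_eq_one_iff_unique.1 hn).1
          exact isCyclic_of_subsingleton
        · rw [pow_one] at hn
          exact isCyclic_of_prime_card hn
      exact Or.inl (GN.case_cyclic h0 T hcyc)
  · obtain ⟨e⟩ := he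
    rcases GQ.case_Q8 h h0 T e with h1 | h1
    · exact Or.inr (Or.inr (Or.inr (Or.inr (Or.inr (Or.inr (Or.inr (Or.inr (Or.inl h1))))))))
    · exact Or.inr (Or.inr (Or.inr (Or.inr (Or.inr (Or.inr (Or.inr (Or.inr (Or.inr h1))))))))

end Cfsg.Agent.Lib.EqOrd.Wrap
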